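import Mathlib
import Cfsg.Agent.ONType.CzIso
import Cfsg.Agent.S3895
import Cfsg.Agent.TwoFusion.IndexTwoOrSix
import Cfsg.Agent.TwoFusion.IsolatedCenter
import Cfsg.Agent.GTwoFour.Tools
import Cfsg.Agent.Lib.HallHigman
import Cfsg.Agent.TwoFusion.SLTwoFacts
import Cfsg.Agent.LieClassical.SmallIso
import Cfsg.Agent.OddOrderLocal.CommProd
import Cfsg.Agent.SylowSp4.QuatId
import Cfsg.Agent.FastGrp
import Cfsg.Agent.Prune
set_option linter.all false
prune_inst 0x7f00000000000000000000000000000000000000000000000000000000000000000000000000000000000000000000000000000000000000000000000000000000000000000000000000000000000000003fffffffffffffffffffffffffffbeffbdffffffff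
open scoped Cfsg.Agent.FastGrp

-- part: H474/ZStarElt
section
/-!
# The Z*-theorem for 2-elements in a group without normal subgroups of odd order

If `O_{2'}(G) = 1` and `x` is an element of the Sylow 2-subgroup `P` which is not conjugate to any other
element of `P`, then `x` is central.
-/

set_option autoImplicit false
open Cfsg

namespace Cfsg.Agent.H474.ZStarElt

universe u

open Subgroup
open scoped Pointwise

/-- isolation of an element in every 2-subgroup containing a conjugate -/
theorem iso_of_isPGroup {G : Type u} [Group G] [Finite G] (P : Sylow 2 G) {x : G}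
    (hiso : ∀ g : G, g * x * g⁻¹ ∈ P → g * x * g⁻¹ = x) {T : Subgroup G} (hT : IsPGroup 2 T)
    {a b : G} (ha : a * x * a⁻¹ ∈ T) (hb : b * x * b⁻¹ ∈ T) : a * x * a⁻¹ = b * x * b⁻¹ := by
  have : Fact (Nat.Prime 2) := ⟨Nat.prime_two⟩
  obtain ⟨R, hR⟩ := hT.exists_le_sylow
  obtain ⟨g, hg⟩ := MulAction.exists_smul_eq G R P
  have key : ∀ c : G, c * x * c⁻¹ ∈ T → g * (c * x * c⁻¹) * g⁻¹ = x := by
    intro c hc
    have h1 : MulAut.conj g (c * x * c⁻¹) ∈ MulAut.conj g • (R : Subgroup G) :=
      Subgroup.smul_mem_pointwise_smul _ _ _ (hR hc)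
    have h2 : g * (c * x * c⁻¹) * g⁻¹ ∈ P := by
      rw [← hg]; exact h1
    have h3 : g * (c * x * c⁻¹) * g⁻¹ = (g * c) * x * (g * c)⁻¹ := by group
    rw [h3] at h2 ⊢
    exact hiso _ h2
  have h1 := key a ha
  have h2 := key b hb
  have h3 := h1.trans h2.symm
  exact mul_left_cancel (mul_right_cancel h3)

/-- The Z*-theorem for elements of 2-power order (core-free case). -/
theorem mem_center (n : ℕ) : ∀ (G : Type u) [Group G] [Finite G], Nat.card G ≤ n →
    Cfsg.oddCore G = ⊥ → ∀ (P : Sylow 2 G) (x : G), x ∈ P →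
    (∀ g : G, g * x * g⁻¹ ∈ P → g * x * g⁻¹ = x) → x ∈ center G := by
  have : Fact (Nat.Prime 2) := ⟨Nat.prime_two⟩
  induction n with
  | zero =>
    intro G _ _ hc
    have := Nat.card_pos (α := G)
    omega
  | succ n ih =>
    intro G _ _ hc hO P x hxP hiso
    by_cases hx1 : x = 1
    · rw [hx1]; exact one_mem _
    obtain ⟨k, hk⟩ := IsPGroup.iff_orderOf.1 P.isPGroup' ⟨x, hxP⟩
    rw [Subgroup.orderOf_mk] at hk
    have hk0 : k ≠ 0 := by
      rintro rfl
      rw [pow_zero, orderOf_eq_one_iff] at hk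
      exact hx1 hk
    obtain ⟨j, rfl⟩ := Nat.exists_eq_succ_of_ne_zero hk0
    set t : G := x ^ (2 ^ j) with ht
    have ht2 : orderOf t = 2 := by
      rw [ht, orderOf_pow, hk]
      have : Nat.gcd (2 ^ j.succ) (2 ^ j) = 2 ^ j :=
        Nat.gcd_eq_right (pow_dvd_pow 2 (Nat.le_succ j))
      rw [this, Nat.pow_succ]
      exact Nat.mul_div_cancel_left _ (by positivity)
    have htP : t ∈ P := pow_mem hxP _
    -- `x` centralizes `P`
    have hxc : ∀ y ∈ P, y * x = x * y := by
      intro y hy
      have := hiso y (mul_mem (mul_mem hy hxP) (inv_mem hy))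
      calc y * x = (y * x * y⁻¹) * y := by group
        _ = x * y := by rw [this]
    have hpow : ∀ g : G, g * t * g⁻¹ = (g * x * g⁻¹) ^ (2 ^ j) := by
      intro g
      rw [conj_pow]
    -- `t` is isolated
    have htiso : ∀ g : G, g * t * g⁻¹ ∈ P → g * t * g⁻¹ = t := by
      intro g hg
      set s : G := g * t * g⁻¹ with hs
      set c : G := g * x * g⁻¹ with hcdef
      have hsc : s = c ^ (2 ^ j) := hpow g
      have hxC : x ∈ centralizer ({s} : Set G) := by
        rw [mem_centralizer_singleton_iff]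
        exact (hxc s hg).symm
      have hcC : c ∈ centralizer ({s} : Set G) := by
        rw [mem_centralizer_singleton_iff, hsc]
        exact (Commute.refl c).pow_right _
      set C := centralizer ({s} : Set G) with hC
      have hp1 : IsPGroup 2 (zpowers (⟨x, hxC⟩ : C)) := by
        apply IsPGroup.of_card (n := j.succ)
        rw [Nat.card_zpowers, Subgroup.orderOf_mk, hk]
      have hp2 : IsPGroup 2 (zpowers (⟨c, hcC⟩ : C)) := by
        apply IsPGroup.of_card (n := j.succ)
        rw [Nat.card_zpowers, Subgroup.orderOf_mk, ← hk]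
        exact orderOf_injective (MulAut.conj g).toMonoidHom (MulAut.conj g).injective x
      obtain ⟨T1, hT1⟩ := hp1.exists_le_sylow
      obtain ⟨T2, hT2⟩ := hp2.exists_le_sylow
      obtain ⟨e, he⟩ := MulAction.exists_smul_eq C T2 T1
      have h1 : MulAut.conj e (⟨c, hcC⟩ : C) ∈ MulAut.conj e • (T2 : Subgroup C) :=
        Subgroup.smul_mem_pointwise_smul _ _ _ (hT2 (mem_zpowers _))
      have h2 : MulAut.conj e (⟨c, hcC⟩ : C) ∈ (T1 : Subgroup C) := by
        rw [← he]; exact h1
      have h3 : (⟨x, hxC⟩ : C) ∈ (T1 : Subgroup C) := hT1 (mem_zpowers _)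
      set T : Subgroup G := (T1 : Subgroup C).map C.subtype with hT
      have hTp : IsPGroup 2 T := T1.isPGroup'.map _
      have h4 : (e : G) * c * (e : G)⁻¹ ∈ T := ⟨_, h2, rfl⟩
      have h5 : x ∈ T := ⟨_, h3, rfl⟩
      have h6 := iso_of_isPGroup P hiso hTp (a := (e : G) * g) (b := 1) (by
        have : (e : G) * g * x * ((e : G) * g)⁻¹ = (e : G) * c * (e : G)⁻¹ := by
          rw [hcdef]; group
        rw [this]; exact h4) (by simpa using h5)
      have h7 : (e : G) * c * (e : G)⁻¹ = x := by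
        have : (e : G) * g * x * ((e : G) * g)⁻¹ = (e : G) * c * (e : G)⁻¹ := by
          rw [hcdef]; group
        rw [← this, h6]; group
      have h8 : (e : G) * s * (e : G)⁻¹ = t := by
        rw [hsc, ← conj_pow, h7]
      have h9 : (e : G) * s * (e : G)⁻¹ = s := by
        have := mem_centralizer_singleton_iff.1 e.2
        rw [mul_inv_eq_iff_eq_mul]
        exact this
      rw [← h9, h8]
    obtain ⟨N, hN, hNodd, hNc⟩ := Cfsg.Agent.S0215.result P t ht2 htP htiso
    have hN1 : N = ⊥ := Cfsg.Agent.ONType.Cz.eq_bot_of_odd hO N hN hNodd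
    have htc : t ∈ center G := by
      rw [mem_center_iff]
      intro g
      have := hNc g
      rw [hN1, mem_bot] at this
      have h : t * g = g * t := by
        calc t * g = (t * g * t⁻¹ * g⁻¹) * (g * t) := by group
          _ = g * t := by rw [this, one_mul]
      exact h.symm
    have hZc : zpowers t ≤ center G := by rw [zpowers_le]; exact htc
    have hZn : (zpowers t).Normal := ⟨fun a ha g => by
      have := mem_center_iff.1 (hZc ha) g
      rw [this]; simpa using ha⟩
    have hZp : IsPGroup 2 (zpowers t) := by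
      apply IsPGroup.of_card (n := 1)
      rw [Nat.card_zpowers, ht2, pow_one]
    have hZP : zpowers t ≤ (P : Subgroup G) := by rw [zpowers_le]; exact htP
    have hO' := Cfsg.Agent.ONType.Cz.oddCore_quotient_central hO (zpowers t) hZc hZp
    set q := QuotientGroup.mk' (zpowers t) with hq
    have hqs : Function.Surjective q := QuotientGroup.mk'_surjective _
    have hcard : Nat.card (G ⧸ zpowers t) ≤ n := by
      have h1 := Subgroup.card_eq_card_quotient_mul_card_subgroup (zpowers t)
      rw [Nat.card_zpowers, ht2] at h1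
      have h2 : 0 < Nat.card (G ⧸ zpowers t) := Nat.card_pos
      omega
    have hker : q.ker ≤ (P : Subgroup G) := by
      rw [hq, QuotientGroup.ker_mk']; exact hZP
    have hmem : ∀ y : G, q y ∈ (P.mapSurjective hqs : Subgroup (G ⧸ zpowers t)) → y ∈ P := by
      intro y hy
      rw [Sylow.coe_mapSurjective] at hy
      obtain ⟨w, hw, hwy⟩ := Subgroup.mem_map.1 hy
      have : w⁻¹ * y ∈ q.ker := by
        rw [MonoidHom.mem_ker, map_mul, map_inv, hwy]; group
      have h2 := mul_mem hw (hker this)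
      rw [mul_inv_cancel_left] at h2
      exact h2
    have h := ih (G ⧸ zpowers t) hcard hO' (P.mapSurjective hqs) (q x)
      (by
        change q x ∈ (P.mapSurjective hqs : Subgroup (G ⧸ zpowers t))
        rw [Sylow.coe_mapSurjective]
        exact Subgroup.mem_map_of_mem _ hxP)
      (by
        intro g' hg'
        obtain ⟨g, rfl⟩ := hqs g'
        rw [← map_inv, ← map_mul, ← map_mul] at hg' ⊢
        rw [hiso g (hmem _ hg')])
    rw [mem_center_iff]
    intro g
    have h1 := mem_center_iff.1 h (q g)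
    have h2 : g * x * g⁻¹ * x⁻¹ ∈ q.ker := by
      rw [MonoidHom.mem_ker, map_mul, map_mul, map_mul, map_inv, map_inv, h1]
      group
    have h3 : g * x * g⁻¹ ∈ P := by
      have := mul_mem (hker h2) hxP
      rw [inv_mul_cancel_right] at this
      exact this
    have h4 := hiso g h3
    calc g * x = (g * x * g⁻¹) * g := by group
      _ = x * g := by rw [h4]

end Cfsg.Agent.H474.ZStarElt
end

-- part: H474/TwoCount
section
/-!
# Groups with exactly `|P|/2` classes of 2-elements: fusion class sizes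
-/

set_option autoImplicit false
open Cfsg

namespace Cfsg.Agent.H474.TwoCount

universe u

open Subgroup
open scoped Pointwise

/-- counting lemma -/
theorem count_fibers {α β : Type*} [Finite α] [Finite β] (f : α → β) (hf : Function.Surjective f)
    (a0 : α) (h0 : ∀ a, f a = f a0 → a = a0) (h2 : ∀ a, a ≠ a0 → ∃ b, b ≠ a ∧ f b = f a)
    (hcard : Nat.card α = 2 * Nat.card β) :
    (∀ a, Nat.card {b // f b = f a} ≤ 3) ∧
    (∀ a b, 3 ≤ Nat.card {x // f x = f a} → 3 ≤ Nat.card {x // f x = f b} → f a = f b) := by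
  classical
  have : Fintype α := Fintype.ofFinite α
  have : Fintype β := Fintype.ofFinite β
  set w : β → ℕ := fun c => (Finset.univ.filter (fun a => f a = c)).card with hw
  have hwc : ∀ c, Nat.card {x // f x = c} = w c := by
    intro c
    rw [Nat.card_eq_fintype_card, Fintype.card_subtype]
  have hsum : ∑ c, w c = Nat.card α := by
    rw [Nat.card_eq_fintype_card, ← Finset.card_univ]
    exact (Finset.card_eq_sum_card_fiberwise (fun a _ => Finset.mem_univ (f a))).symm
  have hβ : Nat.card β = ∑ _c : β, 1 := by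
    rw [Nat.card_eq_fintype_card, Finset.sum_const, Finset.card_univ, smul_eq_mul, mul_one]
  have h1 : ∀ c, 1 ≤ w c := by
    intro c
    obtain ⟨a, rfl⟩ := hf c
    exact Finset.card_pos.2 ⟨a, Finset.mem_filter.2 ⟨Finset.mem_univ _, rfl⟩⟩
  have h2' : ∀ c, c ≠ f a0 → 2 ≤ w c := by
    intro c hc
    obtain ⟨a, rfl⟩ := hf c
    have ha : a ≠ a0 := fun h => hc (by rw [h])
    obtain ⟨b, hb, hfb⟩ := h2 a ha
    have : ({b, a} : Finset α) ⊆ Finset.univ.filter (fun x => f x = f a) := by
      intro x hx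
      simp only [Finset.mem_insert, Finset.mem_singleton] at hx
      rcases hx with rfl | rfl
      · simp only [hfb, _root_.Finset.mem_filter, _root_.Finset.mem_univ, _root_.and_self]
      · simp only [_root_.Finset.mem_filter, _root_.Finset.mem_univ, _root_.and_self]
    calc 2 = ({b, a} : Finset α).card := (Finset.card_pair hb).symm
      _ ≤ _ := Finset.card_le_card this
  have hw0 : w (f a0) = 1 := by
    rw [hw]
    rw [Finset.card_eq_one]
    refine ⟨a0, ?_⟩
    ext x
    simp only [Finset.mem_filter, Finset.mem_univ, true_and, Finset.mem_singleton]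
    exact ⟨fun h => h0 x h, fun h => by rw [h]⟩
  have total : ∑ c, w c = 2 * ∑ _c : β, 1 := by rw [hsum, hcard, hβ]
  have e0 : ∑ c : β, (if c = f a0 then 1 else 0) = 1 := by
    rw [Finset.sum_ite_eq']; simp
  constructor
  · intro a
    rw [hwc]
    by_contra hlt
    push Not at hlt
    have hne : f a ≠ f a0 := by
      intro h; rw [h, hw0] at hlt; omega
    have e1 : ∑ c : β, (if c = f a then 2 else 0) = 2 := by
      rw [Finset.sum_ite_eq']; simp
    have key : ∑ c : β, (2 * 1 + (if c = f a then 2 else 0)) ≤ ∑ c : β, (w c + if c = f a0 then 1 else 0) := by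
      apply Finset.sum_le_sum
      intro c _
      by_cases hca : c = f a
      · rw [if_pos hca, hca, if_neg hne]; omega
      · rw [if_neg hca]
        by_cases hc0 : c = f a0
        · rw [if_pos hc0]; have := h1 c; omega
        · rw [if_neg hc0]; have := h2' c hc0; omega
    rw [Finset.sum_add_distrib, Finset.sum_add_distrib, e1, e0, ← Finset.mul_sum] at key
    omega
  · intro a b ha hb
    rw [hwc] at ha hb
    by_contra hab
    have hne : f a ≠ f a0 := by
      intro h; rw [h, hw0] at ha; omega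
    have hne' : f b ≠ f a0 := by
      intro h; rw [h, hw0] at hb; omega
    have e1 : ∑ c : β, (if c = f a then 1 else 0) = 1 := by
      rw [Finset.sum_ite_eq']; simp
    have e2 : ∑ c : β, (if c = f b then 1 else 0) = 1 := by
      rw [Finset.sum_ite_eq']; simp
    have key : ∑ c : β, (2 * 1 + (if c = f a then 1 else 0) + (if c = f b then 1 else 0)) ≤
        ∑ c : β, (w c + if c = f a0 then 1 else 0) := by
      apply Finset.sum_le_sum
      intro c _
      by_cases hca : c = f a
      · rw [if_pos hca, hca, if_neg hne, if_neg hab]; omega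
      · rw [if_neg hca]
        by_cases hcb : c = f b
        · rw [if_pos hcb, hcb, if_neg hne']; omega
        · rw [if_neg hcb]
          by_cases hc0 : c = f a0
          · rw [if_pos hc0]; have := h1 c; omega
          · rw [if_neg hc0]; have := h2' c hc0; omega
    rw [Finset.sum_add_distrib, Finset.sum_add_distrib, Finset.sum_add_distrib, e1, e2, e0,
      ← Finset.mul_sum] at key
    omega

/-- the classes of 2-elements -/
abbrev K2 (G : Type*) [Group G] : Type _ :=
  {c : ConjClasses G // ∀ x ∈ c.carrier, ∃ k : ℕ, orderOf x = 2 ^ k}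

theorem mk_two {G : Type u} [Group G] {x : G} (h : ∃ k : ℕ, orderOf x = 2 ^ k) :
    ∀ y ∈ (ConjClasses.mk x).carrier, ∃ k : ℕ, orderOf y = 2 ^ k := by
  intro y hy
  rw [ConjClasses.mem_carrier_iff_mk_eq, ConjClasses.mk_eq_mk_iff_isConj] at hy
  obtain ⟨g, hg⟩ := isConj_iff.1 hy.symm
  obtain ⟨k, hk⟩ := h
  refine ⟨k, ?_⟩
  rw [← hg, ← hk]
  exact orderOf_injective (MulAut.conj g).toMonoidHom (MulAut.conj g).injective x

/-- the map from `P` to the classes of 2-elements -/
def cls {G : Type u} [Group G] {T : Subgroup G} (hT : IsPGroup 2 T) (x : T) : K2 G :=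
  ⟨ConjClasses.mk (x : G), mk_two (by
    obtain ⟨k, hk⟩ := (@IsPGroup.iff_orderOf 2 T _ ⟨Nat.prime_two⟩).1 hT x
    exact ⟨k, by rw [Subgroup.orderOf_coe]; exact hk⟩)⟩

theorem cls_eq_iff {G : Type u} [Group G] {T : Subgroup G} (hT : IsPGroup 2 T) (x y : T) :
    cls hT x = cls hT y ↔ ∃ g : G, g * x * g⁻¹ = y := by
  rw [Subtype.ext_iff]
  change ConjClasses.mk (x : G) = ConjClasses.mk (y : G) ↔ _
  rw [ConjClasses.mk_eq_mk_iff_isConj, isConj_iff]

theorem cls_surjective {G : Type u} [Group G] [Finite G] (P : Sylow 2 G) :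
    Function.Surjective (cls P.isPGroup') := by
  have : Fact (Nat.Prime 2) := ⟨Nat.prime_two⟩
  rintro ⟨c, hc⟩
  obtain ⟨x, rfl⟩ := ConjClasses.exists_rep c
  obtain ⟨k, hk⟩ := hc x ConjClasses.mem_carrier_mk
  have hp : IsPGroup 2 (Subgroup.zpowers x) := by
    apply IsPGroup.of_card (n := k)
    rw [Nat.card_zpowers, hk]
  obtain ⟨R, hR⟩ := hp.exists_le_sylow
  obtain ⟨g, hg⟩ := MulAction.exists_smul_eq G R P
  have hxR : x ∈ (R : Subgroup G) := hR (Subgroup.mem_zpowers x)
  have h1 : MulAut.conj g x ∈ MulAut.conj g • (R : Subgroup G) := Subgroup.smul_mem_pointwise_smul _ _ _ hxR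
  have h2 : g * x * g⁻¹ ∈ (P : Subgroup G) := by
    rw [← hg]; exact h1
  refine ⟨⟨g * x * g⁻¹, h2⟩, ?_⟩
  apply Subtype.ext
  change ConjClasses.mk (g * x * g⁻¹) = ConjClasses.mk x
  exact (ConjClasses.mk_eq_mk_iff_isConj.2 (isConj_iff.2 ⟨g, rfl⟩)).symm

end Cfsg.Agent.H474.TwoCount
end

-- part: H474/TwoFour
section
/-!
# Groups with exactly `|P|/2` classes of 2-elements: the four-group
-/

set_option autoImplicit false
open Cfsg

namespace Cfsg.Agent.H474.TwoFour

universe u

open Subgroup Cfsg.Agent.H474.TwoCount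
open scoped Pointwise

/-- all fusion classes have at most three elements, and at most one has three -/
def Good (G : Type u) [Group G] : Prop :=
  ∀ P : Sylow 2 G, (∀ a, Nat.card {b // cls P.isPGroup' b = cls P.isPGroup' a} ≤ 3) ∧
    (∀ a b, 3 ≤ Nat.card {x // cls P.isPGroup' x = cls P.isPGroup' a} →
      3 ≤ Nat.card {x // cls P.isPGroup' x = cls P.isPGroup' b} → cls P.isPGroup' a = cls P.isPGroup' b)

theorem good_of_center {G : Type u} [Group G] [Finite G] (hO : Cfsg.oddCore G = ⊥)
    (hZ : center G = ⊥) (P0 : Sylow 2 G)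
    (hk : 2 * Nat.card {c : ConjClasses G // ∀ x ∈ c.carrier, ∃ k : ℕ, orderOf x = 2 ^ k} =
      Nat.card ↥(P0 : Subgroup G)) : Good G := by
  have : Fact (Nat.Prime 2) := ⟨Nat.prime_two⟩
  intro P
  have hP : Nat.card ↥(P : Subgroup G) = Nat.card ↥(P0 : Subgroup G) := by
    rw [P.card_eq_multiplicity, P0.card_eq_multiplicity]
  refine count_fibers (cls P.isPGroup') (cls_surjective P) 1 ?_ ?_ ?_
  · intro a ha
    rw [cls_eq_iff] at ha
    obtain ⟨g, hg⟩ := ha
    apply Subtype.ext
    rw [mul_inv_eq_iff_eq_mul] at hg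
    simp only [OneMemClass.coe_one, one_mul] at hg ⊢
    exact mul_eq_left.1 hg
  · intro a ha
    by_contra hcon
    push Not at hcon
    have hc : (a : G) ∈ center G := by
      refine Cfsg.Agent.H474.ZStarElt.mem_center (Nat.card G) G le_rfl hO P a a.2 ?_
      intro g hg
      by_contra hne
      refine hcon ⟨g * a * g⁻¹, hg⟩ (fun h => hne (congrArg Subtype.val h)) ?_
      rw [cls_eq_iff]
      refine ⟨g⁻¹, ?_⟩
      change g⁻¹ * (g * a * g⁻¹) * g⁻¹⁻¹ = a
      group
    rw [hZ, mem_bot] at hc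
    exact ha (Subtype.ext hc)
  · rw [hP, ← hk]

variable {G : Type u} [Group G] [Finite G]

theorem card_fiber_ge (P : Sylow 2 G) (a b c d : P) (hab : cls P.isPGroup' b = cls P.isPGroup' a)
    (hac : cls P.isPGroup' c = cls P.isPGroup' a) (had : cls P.isPGroup' d = cls P.isPGroup' a)
    (h1 : b ≠ c) (h2 : b ≠ d) (h3 : c ≠ d) :
    3 ≤ Nat.card {x // cls P.isPGroup' x = cls P.isPGroup' a} := by
  classical
  have : Fintype G := Fintype.ofFinite G
  have : Fintype {x // cls P.isPGroup' x = cls P.isPGroup' a} := Fintype.ofFinite _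
  have hs : ({⟨b, hab⟩, ⟨c, hac⟩, ⟨d, had⟩} : Finset {x // cls P.isPGroup' x = cls P.isPGroup' a}).card = 3 := by
    rw [Finset.card_eq_three]
    exact ⟨⟨b, hab⟩, ⟨c, hac⟩, ⟨d, had⟩, fun h => h1 (congrArg Subtype.val h),
      fun h => h2 (congrArg Subtype.val h), fun h => h3 (congrArg Subtype.val h), rfl⟩
  rw [← hs, Nat.card_eq_fintype_card]
  exact Finset.card_le_univ _

theorem mem_of_fiber (P : Sylow 2 G) (a b c d : P) (hab : cls P.isPGroup' b = cls P.isPGroup' a)
    (hac : cls P.isPGroup' c = cls P.isPGroup' a) (had : cls P.isPGroup' d = cls P.isPGroup' a)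
    (h1 : b ≠ c) (h2 : b ≠ d) (h3 : c ≠ d)
    (hle : Nat.card {x // cls P.isPGroup' x = cls P.isPGroup' a} ≤ 3) (y : P)
    (hy : cls P.isPGroup' y = cls P.isPGroup' a) : y = b ∨ y = c ∨ y = d := by
  classical
  have : Fintype G := Fintype.ofFinite G
  have : Fintype {x // cls P.isPGroup' x = cls P.isPGroup' a} := Fintype.ofFinite _
  by_contra hcon
  push Not at hcon
  obtain ⟨n1, n2, n3⟩ := hcon
  have hs : ({⟨y, hy⟩, ⟨b, hab⟩, ⟨c, hac⟩, ⟨d, had⟩} : Finset {x // cls P.isPGroup' x = cls P.isPGroup' a}).card = 4 := by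
    rw [Finset.card_eq_four]
    exact ⟨⟨y, hy⟩, ⟨b, hab⟩, ⟨c, hac⟩, ⟨d, had⟩, fun h => n1 (congrArg Subtype.val h),
      fun h => n2 (congrArg Subtype.val h), fun h => n3 (congrArg Subtype.val h),
      fun h => h1 (congrArg Subtype.val h),
      fun h => h2 (congrArg Subtype.val h), fun h => h3 (congrArg Subtype.val h), rfl⟩
  have h4 := Finset.card_le_univ ({⟨y, hy⟩, ⟨b, hab⟩, ⟨c, hac⟩, ⟨d, had⟩} : Finset {x // cls P.isPGroup' x = cls P.isPGroup' a})
  rw [hs, ← Nat.card_eq_fintype_card] at h4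
  omega

/-- An odd order element normalizing and not centralizing `Q ≤ P`. -/
theorem four (hG : Good G) (P : Sylow 2 G) {Q : Subgroup G} (hQP : Q ≤ (P : Subgroup G)) {h : G}
    (hn : h ∈ normalizer (Q : Set G)) (hodd : Nat.Coprime (orderOf h) 2)
    (hc : h ∉ centralizer (Q : Set G)) :
    Nat.card Q = 4 ∧ (∀ x ∈ Q, x ≠ 1 → ∀ g : G, g * x * g⁻¹ ∈ P → g * x * g⁻¹ ∈ Q) ∧
    (∀ x ∈ Q, x ≠ 1 → ∀ y ∈ Q, y ≠ 1 → ∃ g : G, g * x * g⁻¹ = y) ∧
    (∀ x (hx : x ∈ Q), x ≠ 1 →
      3 ≤ Nat.card {b // cls P.isPGroup' b = cls P.isPGroup' (⟨x, hQP hx⟩ : P)}) ∧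
    (∀ x ∈ Q, x ≠ 1 → h * x * h⁻¹ ≠ x) := by
  classical
  obtain ⟨g3, gu⟩ := hG P
  have hQ : IsPGroup 2 Q := P.isPGroup'.to_le hQP
  have hfix := Cfsg.Agent.S3895.four_mul_card_fixed_le hQ hn hodd hc
  have hQ1 : ∀ y ∈ Q, h * y * h⁻¹ ∈ Q := fun y hy => (Subgroup.mem_normalizer_iff.1 hn y).1 hy
  -- the orbit of a non-fixed element
  have key : ∀ x (hx : x ∈ Q), h * x ≠ x * h →
      (∃ b c d : P, cls P.isPGroup' b = cls P.isPGroup' (⟨x, hQP hx⟩ : P) ∧
        cls P.isPGroup' c = cls P.isPGroup' (⟨x, hQP hx⟩ : P) ∧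
        cls P.isPGroup' d = cls P.isPGroup' (⟨x, hQP hx⟩ : P) ∧ b ≠ c ∧ b ≠ d ∧ c ≠ d ∧
        (b : G) ∈ Q ∧ (c : G) ∈ Q ∧ (d : G) ∈ Q) := by
    intro x hxQ hnx
    set x1 := h * x * h⁻¹ with hx1
    set x2 := h * x1 * h⁻¹ with hx2
    have hx1Q : x1 ∈ Q := hQ1 x hxQ
    have hx2Q : x2 ∈ Q := hQ1 x1 hx1Q
    have hne1 : x ≠ x1 := by
      intro e
      apply hnx
      calc h * x = x1 * h := by rw [hx1]; group
        _ = x * h := by rw [← e]
    have hne2 : x1 ≠ x2 := by
      intro e
      apply hne1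
      rw [hx2] at e
      have : h⁻¹ * x1 * h = h⁻¹ * (h * x1 * h⁻¹) * h := by rw [← e]
      calc x = h⁻¹ * x1 * h := by rw [hx1]; group
        _ = h⁻¹ * (h * x1 * h⁻¹) * h := this
        _ = x1 := by group
    have hne3 : x ≠ x2 := by
      intro e
      apply hnx
      have hc2 : Commute (h ^ 2) x := by
        change h ^ 2 * x = x * h ^ 2
        calc h ^ 2 * x = x2 * h ^ 2 := by rw [hx2, hx1, pow_two]; group
          _ = x * h ^ 2 := by rw [← e]
      obtain ⟨m, hm⟩ : ∃ m : ℕ, (h ^ 2) ^ m = h := by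
        obtain ⟨m, hm⟩ := exists_pow_eq_self_of_coprime (n := 2) (x := h) hodd.symm
        exact ⟨m, hm⟩
      have := hc2.pow_left m
      rw [hm] at this
      exact this
    refine ⟨⟨x, hQP hxQ⟩, ⟨x1, hQP hx1Q⟩, ⟨x2, hQP hx2Q⟩, rfl, ?_, ?_,
      fun e => hne1 (congrArg Subtype.val e), fun e => hne3 (congrArg Subtype.val e),
      fun e => hne2 (congrArg Subtype.val e), hxQ, hx1Q, hx2Q⟩
    · rw [cls_eq_iff]
      refine ⟨h⁻¹, ?_⟩
      change h⁻¹ * x1 * h⁻¹⁻¹ = x
      rw [hx1]; group
    · rw [cls_eq_iff]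
      refine ⟨(h ^ 2)⁻¹, ?_⟩
      change (h ^ 2)⁻¹ * x2 * (h ^ 2)⁻¹⁻¹ = x
      rw [hx2, hx1, pow_two]; group
  have hmemc : ∀ x, x ∈ Q ⊓ centralizer ({h} : Set G) ↔ x ∈ Q ∧ h * x = x * h := by
    intro x
    rw [Subgroup.mem_inf, Subgroup.mem_centralizer_singleton_iff]
    constructor
    · rintro ⟨h1, h2⟩; exact ⟨h1, by first | exact h2 | exact h2.symm⟩
    · rintro ⟨h1, h2⟩; exact ⟨h1, by first | exact h2 | exact h2.symm⟩
  have hge : ∀ x (hx : x ∈ Q), h * x ≠ x * h →
      3 ≤ Nat.card {b // cls P.isPGroup' b = cls P.isPGroup' (⟨x, hQP hx⟩ : P)} := by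
    intro x hx hnx
    obtain ⟨b, c, d, e1, e2, e3, n1, n2, n3, -⟩ := key x hx hnx
    exact card_fiber_ge P _ b c d e1 e2 e3 n1 n2 n3
  -- a non-fixed element
  obtain ⟨x0, hx0, hnx0⟩ : ∃ x ∈ Q, h * x ≠ x * h := by
    by_contra hcon
    push Not at hcon
    apply hc
    rw [Subgroup.mem_centralizer_iff]
    intro x hx
    exact (hcon x hx).symm
  obtain ⟨b, c, d, e1, e2, e3, n1, n2, n3, bQ, cQ, dQ⟩ := key x0 hx0 hnx0
  have hall : ∀ x ∈ Q, h * x ≠ x * h → x = b ∨ x = c ∨ x = d := by
    intro x hx hnx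
    have h1 := gu ⟨x, hQP hx⟩ ⟨x0, hQP hx0⟩ (hge x hx hnx) (hge x0 hx0 hnx0)
    have h2 := mem_of_fiber P _ b c d e1 e2 e3 n1 n2 n3 (g3 _) ⟨x, hQP hx⟩ h1
    rcases h2 with h2 | h2 | h2
    · left; exact congrArg Subtype.val h2
    · right; left; exact congrArg Subtype.val h2
    · right; right; exact congrArg Subtype.val h2
  -- counting
  have hcount : Nat.card Q ≤ Nat.card ↥(Q ⊓ centralizer ({h} : Set G)) + 3 := by
    have : Fintype G := Fintype.ofFinite G
    have h1 : Nat.card Q = (Finset.univ.filter (· ∈ Q) : Finset G).card := by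
      rw [Nat.card_eq_fintype_card, Fintype.card_subtype]
    have h2 : Nat.card ↥(Q ⊓ centralizer ({h} : Set G)) =
        (Finset.univ.filter (· ∈ Q ⊓ centralizer ({h} : Set G)) : Finset G).card := by
      rw [Nat.card_eq_fintype_card, Fintype.card_subtype]
    rw [h1, h2]
    have hsub : (Finset.univ.filter (· ∈ Q) : Finset G) ⊆
        (Finset.univ.filter (· ∈ Q ⊓ centralizer ({h} : Set G)) : Finset G) ∪ {(b : G), (c : G), (d : G)} := by
      intro x hx
      simp only [Finset.mem_filter, Finset.mem_univ, true_and] at hx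
      rw [Finset.mem_union]
      by_cases hcx : h * x = x * h
      · left
        simp only [Finset.mem_filter, Finset.mem_univ, true_and]
        exact (hmemc x).2 ⟨hx, hcx⟩
      · right
        simpa using hall x hx hcx
    calc _ ≤ _ := Finset.card_le_card hsub
      _ ≤ _ + ({(b : G), (c : G), (d : G)} : Finset G).card := Finset.card_union_le _ _
      _ ≤ _ := by
        have := Finset.card_le_three (a := (b : G)) (b := c) (c := d)
        omega
  have hpos : 0 < Nat.card ↥(Q ⊓ centralizer ({h} : Set G)) := Nat.card_pos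
  have hc4 : Nat.card Q = 4 := by omega
  have hc1 : Nat.card ↥(Q ⊓ centralizer ({h} : Set G)) = 1 := by omega
  have hbot : Q ⊓ centralizer ({h} : Set G) = ⊥ := Subgroup.card_eq_one.1 hc1
  have hnf : ∀ x ∈ Q, x ≠ 1 → h * x ≠ x * h := by
    intro x hx hx1 hxx
    apply hx1
    rw [← Subgroup.mem_bot, ← hbot]
    exact (hmemc x).2 ⟨hx, hxx⟩
  refine ⟨hc4, ?_, ?_, ?_, ?_⟩
  · intro x hx hx1 g hgP
    have hxn := hnf x hx hx1
    obtain ⟨b', c', d', e1', e2', e3', n1', n2', n3', bQ', cQ', dQ'⟩ := key x hx hxn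
    have h2 := mem_of_fiber P _ b' c' d' e1' e2' e3' n1' n2' n3' (g3 _) ⟨g * x * g⁻¹, hgP⟩ (by
      rw [cls_eq_iff]
      refine ⟨g⁻¹, ?_⟩
      change g⁻¹ * (g * x * g⁻¹) * g⁻¹⁻¹ = x
      group)
    rcases h2 with h2 | h2 | h2
    · have := congrArg Subtype.val h2
      rw [show g * x * g⁻¹ = (b' : G) from this]; exact bQ'
    · have := congrArg Subtype.val h2
      rw [show g * x * g⁻¹ = (c' : G) from this]; exact cQ'
    · have := congrArg Subtype.val h2
      rw [show g * x * g⁻¹ = (d' : G) from this]; exact dQ'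
  · intro x hx hx1 y hy hy1
    have := gu ⟨x, hQP hx⟩ ⟨y, hQP hy⟩ (hge x hx (hnf x hx hx1)) (hge y hy (hnf y hy hy1))
    rw [cls_eq_iff] at this
    exact this
  · intro x hx hx1
    exact hge x hx (hnf x hx hx1)
  · intro x hx hx1 hxx
    exact hnf x hx hx1 (by rw [mul_inv_eq_iff_eq_mul] at hxx; exact hxx)

end Cfsg.Agent.H474.TwoFour
end

-- part: H474/TwoPair
section
/-!
# A refinement of Frobenius' criterion: Sylow subgroups of the centralizer
-/

set_option autoImplicit false
open Cfsg
open scoped Pointwise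

namespace Cfsg.Agent.H474.TwoPair

/-- From Frobenius' criterion to a pair as in the counting argument. -/
theorem exists_pair' {G : Type*} [Group G] [Finite G] {Q : Subgroup G} (hQ : IsPGroup 2 Q) {g : G}
    (hg : g ∈ Subgroup.normalizer (Q : Set G)) (hodd : Nat.Coprime (orderOf g) 2)
    (hc : g ∉ Subgroup.centralizer (Q : Set G)) :
    ∃ (P : Sylow 2 G) (Q₁ : Subgroup G) (h : G), Q₁ ≤ (P : Subgroup G) ∧
      (∀ T : Subgroup G, T ≤ Subgroup.centralizer (Q : Set G) → IsPGroup 2 T → Nat.card T ≤ Nat.card Q₁) ∧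
      h ∈ Subgroup.normalizer (Q₁ : Set G) ∧ Nat.Coprime (orderOf h) 2 ∧
      h ∉ Subgroup.centralizer (Q₁ : Set G) := by
  classical
  have : Fact (Nat.Prime 2) := ⟨Nat.prime_two⟩
  set C : Subgroup G := Subgroup.centralizer (Q : Set G) with hCdef
  -- a Sylow 2-subgroup of `C`
  obtain ⟨R⟩ : Nonempty (Sylow 2 ↥C) := inferInstance
  set R' : Subgroup G := (R : Subgroup ↥C).map C.subtype with hR'
  have hR'C : R' ≤ C := Subgroup.map_subtype_le _
  have hR'p : IsPGroup 2 R' := R.isPGroup'.map _
  have hCg : ∀ x ∈ C, g * x * g⁻¹ ∈ C := by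
    intro x hx
    rw [hCdef, Subgroup.mem_centralizer_iff] at hx ⊢
    intro q hq
    have h1 : g⁻¹ * q * g ∈ Q := by
      have := (Subgroup.mem_normalizer_iff.1 (inv_mem hg) q).1 hq
      simpa using this
    have h2 := hx _ h1
    calc q * (g * x * g⁻¹) = g * ((g⁻¹ * q * g) * x) * g⁻¹ := by group
      _ = g * (x * (g⁻¹ * q * g)) * g⁻¹ := by rw [h2]
      _ = (g * x * g⁻¹) * q := by group
  -- the maximality of `R'`
  have hmax : ∀ T : Subgroup G, IsPGroup 2 T → T ≤ C → R' ≤ T → T = R' := by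
    intro T hT hTC hRT
    have h1 : IsPGroup 2 (T.subgroupOf C) := hT.comap_subtype
    have h2 : (R : Subgroup ↥C) ≤ T.subgroupOf C := by
      intro x hx
      exact Subgroup.mem_subgroupOf.2 (hRT (Subgroup.mem_map.2 ⟨x, hx, rfl⟩))
    have h3 := R.is_maximal' h1 h2
    have h4 : (T.subgroupOf C).map C.subtype = T := Subgroup.map_subgroupOf_eq_of_le hTC
    rw [← h4, h3]
  -- conj by g
  set T : Subgroup G := R'.map (MulAut.conj g).toMonoidHom with hTdef
  have hTC : T ≤ C := by
    rintro _ ⟨x, hx, rfl⟩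
    exact hCg x (hR'C hx)
  have hTp : IsPGroup 2 T := hR'p.map _
  have hcardT : Nat.card ↥T = Nat.card ↥R' :=
    Nat.card_congr (R'.equivMapOfInjective _ (MulAut.conj g).injective).toEquiv.symm
  have hcardR : Nat.card ↥R' = Nat.card ↥(R : Subgroup ↥C) :=
    Nat.card_congr ((R : Subgroup ↥C).equivMapOfInjective _ C.subtype_injective).toEquiv.symm
  obtain ⟨R2, hR2⟩ := (hTp.comap_subtype (K := C)).exists_le_sylow
  have hR2eq : T.subgroupOf C = (R2 : Subgroup ↥C) := by
    refine Subgroup.eq_of_le_of_card_ge hR2 ?_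
    change Nat.card ↥(R2 : Subgroup ↥C) ≤ Nat.card ↥(T.subgroupOf C)
    have e1 : Nat.card ↥(R2 : Subgroup ↥C) = Nat.card ↥(R : Subgroup ↥C) := by
      rw [R2.card_eq_multiplicity, R.card_eq_multiplicity]
    have e2 : Nat.card ↥(T.subgroupOf C) = Nat.card ↥T :=
      Nat.card_congr (Subgroup.subgroupOfEquivOfLe hTC).toEquiv
    rw [e1, e2, hcardT, hcardR]
  obtain ⟨c, hc2⟩ := MulAction.exists_smul_eq ↥C R2 R
  -- h0 = c * g normalizes R'
  have hT2 : ∀ x ∈ R', ((c : G) * g) * x * ((c : G) * g)⁻¹ ∈ R' := by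
    intro x hx
    have h1 : g * x * g⁻¹ ∈ T := Subgroup.mem_map.2 ⟨x, hx, rfl⟩
    have h2 : (⟨g * x * g⁻¹, hTC h1⟩ : ↥C) ∈ (R2 : Subgroup ↥C) := by
      rw [← hR2eq]; exact Subgroup.mem_subgroupOf.2 h1
    have h3 : MulAut.conj c ⟨g * x * g⁻¹, hTC h1⟩ ∈ MulAut.conj c • (R2 : Subgroup ↥C) :=
      Subgroup.smul_mem_pointwise_smul _ _ _ h2
    have h4 : MulAut.conj c ⟨g * x * g⁻¹, hTC h1⟩ ∈ (R : Subgroup ↥C) := by
      rw [← hc2]; exact h3
    have h5 := Subgroup.mem_map_of_mem C.subtype h4
    rw [← hR'] at h5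
    have h6 : C.subtype (MulAut.conj c ⟨g * x * g⁻¹, hTC h1⟩) = ((c : G) * g) * x * ((c : G) * g)⁻¹ := by
      simp only [MulAut.conj_apply, Subgroup.coe_subtype, Subgroup.coe_mul, Subgroup.coe_inv]
      group
    rw [h6] at h5
    exact h5
  set h0 : G := (c : G) * g with hh0
  have hcC : (c : G) ∈ C := c.2
  have hact : ∀ q ∈ Q, h0 * q * h0⁻¹ = g * q * g⁻¹ := by
    intro q hq
    have hq' : g * q * g⁻¹ ∈ Q := (Subgroup.mem_normalizer_iff.1 hg q).1 hq
    have := Subgroup.mem_centralizer_iff.1 hcC _ hq'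
    calc h0 * q * h0⁻¹ = (c : G) * (g * q * g⁻¹) * (c : G)⁻¹ := by rw [hh0]; group
      _ = ((g * q * g⁻¹) * (c : G)) * (c : G)⁻¹ := by rw [this]
      _ = g * q * g⁻¹ := by group
  have hactn : ∀ n : ℕ, ∀ q ∈ Q, h0 ^ n * q * (h0 ^ n)⁻¹ = g ^ n * q * (g ^ n)⁻¹ := by
    intro n
    induction n with
    | zero => intro q hq; simp
    | succ n ih =>
      intro q hq
      have hq' : g ^ n * q * (g ^ n)⁻¹ ∈ Q := (Subgroup.mem_normalizer_iff.1 (pow_mem hg n) q).1 hq
      calc h0 ^ (n + 1) * q * (h0 ^ (n + 1))⁻¹ = h0 * (h0 ^ n * q * (h0 ^ n)⁻¹) * h0⁻¹ := by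
            rw [pow_succ']; group
        _ = h0 * (g ^ n * q * (g ^ n)⁻¹) * h0⁻¹ := by rw [ih q hq]
        _ = g * (g ^ n * q * (g ^ n)⁻¹) * g⁻¹ := hact _ hq'
        _ = g ^ (n + 1) * q * (g ^ (n + 1))⁻¹ := by rw [pow_succ']; group
  -- the odd part of h0
  obtain ⟨a, m, hm, ham⟩ := Nat.exists_eq_two_pow_mul_odd (n := orderOf h0) (orderOf_pos h0).ne'
  set h : G := h0 ^ (2 ^ a) with hhdef
  have hord : orderOf h = m := by
    rw [hhdef, orderOf_pow, ham]
    have : Nat.gcd (2 ^ a * m) (2 ^ a) = 2 ^ a := Nat.gcd_mul_right_left _ _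
    rw [this]
    exact Nat.mul_div_cancel_left _ (by positivity)
  have hoddh : Nat.Coprime (orderOf h) 2 := by
    rw [hord]; exact hm.coprime_two_right
  have hnotc : ¬ ∀ q ∈ Q, h * q = q * h := by
    intro hall
    apply hc
    rw [hCdef, Subgroup.mem_centralizer_iff]
    intro q hq
    have h1 := hactn (2 ^ a) q hq
    have h2 : h0 ^ (2 ^ a) * q * (h0 ^ (2 ^ a))⁻¹ = q := by
      rw [mul_inv_eq_iff_eq_mul]; exact hall q hq
    rw [h2] at h1
    have h3 : Commute (g ^ (2 ^ a)) q := by
      change g ^ (2 ^ a) * q = q * g ^ (2 ^ a)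
      rw [eq_comm, mul_inv_eq_iff_eq_mul] at h1
      exact h1
    obtain ⟨k, hk⟩ := exists_pow_eq_self_of_coprime (n := 2 ^ a) (x := g)
      (Nat.Coprime.pow_left a hodd.symm)
    have h4 := h3.pow_left k
    rw [hk] at h4
    exact h4.eq.symm
  -- the subgroup Q₁ = R' ⊔ Q
  have hR'N : R' ≤ Subgroup.normalizer (Q : Set G) :=
    hR'C.trans (Subgroup.centralizer_le_normalizer _)
  have hQ1p : IsPGroup 2 ↥(R' ⊔ Q : Subgroup G) := hR'p.to_sup_of_normal_right' hQ hR'N
  obtain ⟨P, hP⟩ := hQ1p.exists_le_sylow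
  have hnormR' : h0 ∈ Subgroup.normalizer (R' : Set G) := by
    have hle : R'.map (MulAut.conj h0).toMonoidHom ≤ R' := by
      rintro _ ⟨x, hx, rfl⟩
      exact hT2 x hx
    have hcard : Nat.card ↥(R'.map (MulAut.conj h0).toMonoidHom) = Nat.card ↥R' :=
      Nat.card_congr (R'.equivMapOfInjective _ (MulAut.conj h0).injective).toEquiv.symm
    have heq : R'.map (MulAut.conj h0).toMonoidHom = R' :=
      Subgroup.eq_of_le_of_card_ge hle hcard.ge
    rw [Subgroup.mem_normalizer_iff]
    intro x
    constructor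
    · intro hx; exact hT2 x hx
    · intro hx
      rw [← heq] at hx
      obtain ⟨y, hy, hy2⟩ := hx
      have : y = x := by
        have h5 : h0 * y * h0⁻¹ = h0 * x * h0⁻¹ := hy2
        exact mul_left_cancel (mul_right_cancel h5)
      rw [← this]; exact hy
  have hgN : h0 ∈ Subgroup.normalizer (Q : Set G) :=
    mul_mem (Subgroup.centralizer_le_normalizer _ hcC) hg
  refine ⟨P, R' ⊔ Q, h, hP, ?_, ?_, hoddh, ?_⟩
  · intro T' hT'C hT'p
    obtain ⟨R3, hR3⟩ := (hT'p.comap_subtype (K := C)).exists_le_sylow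
    have e0 : Nat.card ↥(T'.subgroupOf C) = Nat.card ↥T' :=
      Nat.card_congr (Subgroup.subgroupOfEquivOfLe hT'C).toEquiv
    have e1 : Nat.card ↥(T'.subgroupOf C) ≤ Nat.card ↥(R3 : Subgroup ↥C) :=
      Subgroup.card_le_of_le hR3
    have e2 : Nat.card ↥(R3 : Subgroup ↥C) = Nat.card ↥(R : Subgroup ↥C) := by
      rw [R3.card_eq_multiplicity, R.card_eq_multiplicity]
    have e3 : Nat.card ↥R' ≤ Nat.card ↥(R' ⊔ Q : Subgroup G) :=
      Subgroup.card_le_of_le le_sup_left
    omega
  · apply pow_mem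
    have hmap : (R' ⊔ Q).map (MulAut.conj h0).toMonoidHom = R' ⊔ Q := by
      rw [Subgroup.map_sup]
      congr 1
      · ext x
        constructor
        · rintro ⟨y, hy, rfl⟩
          exact (Subgroup.mem_normalizer_iff.1 hnormR' y).1 hy
        · intro hx
          refine ⟨h0⁻¹ * x * h0, ?_, ?_⟩
          · have := (Subgroup.mem_normalizer_iff.1 (inv_mem hnormR') x).1 hx
            simpa using this
          · change h0 * (h0⁻¹ * x * h0) * h0⁻¹ = x
            group
      · ext x
        constructor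
        · rintro ⟨y, hy, rfl⟩
          exact (Subgroup.mem_normalizer_iff.1 hgN y).1 hy
        · intro hx
          refine ⟨h0⁻¹ * x * h0, ?_, ?_⟩
          · have := (Subgroup.mem_normalizer_iff.1 (inv_mem hgN) x).1 hx
            simpa using this
          · change h0 * (h0⁻¹ * x * h0) * h0⁻¹ = x
            group
    rw [Subgroup.mem_normalizer_iff]
    intro x
    constructor
    · intro hx
      rw [← SetLike.mem_coe, ← hmap]
      exact ⟨x, hx, rfl⟩
    · intro hx
      rw [← SetLike.mem_coe, ← hmap] at hx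
      obtain ⟨y, hy, hy2⟩ := hx
      have : y = x := by
        have h5 : h0 * y * h0⁻¹ = h0 * x * h0⁻¹ := hy2
        exact mul_left_cancel (mul_right_cancel h5)
      rw [← this]; exact hy
  · intro hcent
    apply hnotc
    intro q hq
    exact (Subgroup.mem_centralizer_iff.1 hcent q (Subgroup.mem_sup_right hq)).symm


end Cfsg.Agent.H474.TwoPair
end

-- part: H474/TwoFrame
section
/-!
# Groups with exactly `|P|/2` classes of 2-elements: the frame and the solvable case
-/

set_option autoImplicit false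
open Cfsg

namespace Cfsg.Agent.H474.TwoFrame

universe u

open Subgroup Cfsg.Agent.H474.TwoCount Cfsg.Agent.H474.TwoFour
open scoped Pointwise

/-- the four-group `V` of the Sylow 2-subgroup `P` -/
structure Frame {G : Type u} [Group G] (P : Sylow 2 G) (V : Subgroup G) (h : G) : Prop where
  le : V ≤ (P : Subgroup G)
  card : Nat.card V = 4
  nrm : ∀ x ∈ P, ∀ v ∈ V, x * v * x⁻¹ ∈ V
  closed : ∀ v ∈ V, ∀ g : G, g * v * g⁻¹ ∈ P → g * v * g⁻¹ ∈ V
  trans : ∀ x ∈ V, x ≠ 1 → ∀ y ∈ V, y ≠ 1 → ∃ g : G, g * x * g⁻¹ = y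
  cent : ∀ x ∈ P, (∀ v ∈ V, x * v = v * x) → x ∈ V
  fib : ∀ x (hx : x ∈ P), x ∉ V → Nat.card {b // cls P.isPGroup' b = cls P.isPGroup' (⟨x, hx⟩ : P)} ≤ 2
  hV : h ∈ normalizer (V : Set G)
  hodd : Nat.Coprime (orderOf h) 2
  hmv : ∀ x ∈ V, x ≠ 1 → h * x * h⁻¹ ≠ x

variable {G : Type u} [Group G] [Finite G]

theorem exists_frame (hG : Good G) (hn : ¬ HasNormalPComplement 2 G) :
    ∃ (P : Sylow 2 G) (V : Subgroup G) (h : G), Frame P V h := by
  have : Fact (Nat.Prime 2) := ⟨Nat.prime_two⟩
  obtain ⟨P⟩ : Nonempty (Sylow 2 G) := inferInstance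
  have hnot2 : ¬ ∃ N : Subgroup G, N.Normal ∧ N.IsComplement' (P : Subgroup G) := by
    rintro ⟨N, h1, h2⟩
    exact hn ⟨P, N, h1, h2⟩
  rw [Cfsg.Agent.S0071.result P] at hnot2
  push Not at hnot2
  obtain ⟨Q, hQP, g, hg, hodd, hgc⟩ := hnot2
  obtain ⟨P', Q₁, h, k1, k2, k3, k4, k5⟩ :=
    Cfsg.Agent.H474.TwoPair.exists_pair' (P.isPGroup'.to_le hQP) hg hodd hgc
  obtain ⟨c4, f1, f2, f3, f4⟩ := four hG P hQP hg hodd hgc
  obtain ⟨c4', -⟩ := four hG P' k1 k3 k4 k5
  refine ⟨P, Q, g, hQP, c4, ?_, ?_, f2, ?_, ?_, hg, hodd, f4⟩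
  · intro x hx v hv
    by_cases h1 : v = 1
    · rw [h1]; simp
    · exact f1 v hv h1 x (mul_mem (mul_mem hx (hQP hv)) (inv_mem hx))
  · intro v hv g' hg'
    by_cases h1 : v = 1
    · rw [h1]; simp
    · exact f1 v hv h1 g' hg'
  · -- the centralizer of Q in P
    have hQc : Q ≤ centralizer (Q : Set G) := by
      have hab : ∀ a b : Q, a * b = b * a := by
        have h22 : Nat.card Q = 2 ^ 2 := by rw [c4]; norm_num
        exact fun a b => (IsPGroup.isMulCommutative_of_card_eq_prime_sq h22).is_comm.comm a b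
      intro a ha
      rw [mem_centralizer_iff]
      intro b hb
      exact congrArg Subtype.val (hab ⟨b, hb⟩ ⟨a, ha⟩)
    have h1 : IsPGroup 2 ((P : Subgroup G) ⊓ centralizer (Q : Set G) : Subgroup G) :=
      P.isPGroup'.to_le inf_le_left
    have h2 := k2 _ inf_le_right h1
    have h3 : Q = (P : Subgroup G) ⊓ centralizer (Q : Set G) := by
      refine eq_of_le_of_card_ge (le_inf hQP hQc) ?_
      rw [c4, ← c4']; exact h2
    intro x hx hxc
    rw [h3]
    exact ⟨hx, mem_centralizer_iff.2 (fun v hv => (hxc v hv).symm)⟩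
  · intro x hx hxV
    by_contra hlt
    push Not at hlt
    -- nontrivial element of Q
    obtain ⟨v, hv, hv1⟩ : ∃ v ∈ Q, v ≠ 1 := by
      by_contra hcon
      push Not at hcon
      have : Q = ⊥ := (eq_bot_iff_forall Q).2 hcon
      rw [this, card_bot] at c4
      omega
    have h1 := (hG P).2 ⟨v, hQP hv⟩ ⟨x, hx⟩ (f3 v hv hv1) (by omega)
    rw [cls_eq_iff] at h1
    obtain ⟨g', hg'⟩ := h1
    apply hxV
    have h2 := f1 v hv hv1 g' (by
      change g' * v * g'⁻¹ ∈ P
      have : g' * v * g'⁻¹ = x := hg'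
      rw [this]; exact hx)
    have : g' * v * g'⁻¹ = x := hg'
    rw [this] at h2
    exact h2

omit [Finite G] in
/-- a subgroup normalizing a group of order four -/
theorem card_dvd_of_normalizes {V N : Subgroup G} (hV : Nat.card V = 4)
    (hN : N ≤ normalizer (V : Set G)) :
    Nat.card N ∣ Nat.card ↥(N ⊓ centralizer (V : Set G)) * 6 := by
  let f : N →* MulAut V := V.normalizerMonoidHom.comp (inclusion hN)
  have h1 : Nat.card N = Nat.card f.ker * Nat.card f.range := by
    have := Subgroup.card_eq_card_quotient_mul_card_subgroup f.ker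
    rw [Nat.card_congr (QuotientGroup.quotientKerEquivRange f).toEquiv] at this
    rw [this, mul_comm]
  have h2 : Nat.card f.range ∣ 6 := by
    have h3 := Subgroup.card_subgroup_dvd_card f.range
    exact h3.trans (Cfsg.Agent.TwoFusion.IndexTwoOrSix.card_mulAut_dvd_six hV)
  have h3 : Nat.card f.ker = Nat.card ↥(N ⊓ centralizer (V : Set G)) := by
    have h4 : f.ker = (N ⊓ centralizer (V : Set G)).subgroupOf N := by
      ext x
      rw [MonoidHom.mem_ker, mem_subgroupOf, mem_inf]
      constructor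
      · intro hx
        refine ⟨x.2, ?_⟩
        rw [mem_centralizer_iff]
        intro v hv
        have := congrArg Subtype.val (DFunLike.congr_fun hx ⟨v, hv⟩)
        have h5 : (x : G) * v * (x : G)⁻¹ = v := this
        rw [mul_inv_eq_iff_eq_mul] at h5
        exact h5.symm
      · rintro ⟨-, hx⟩
        rw [mem_centralizer_iff] at hx
        ext v
        have h5 := hx v.1 v.2
        change (x : G) * (v : G) * (x : G)⁻¹ = (v : G)
        rw [mul_inv_eq_iff_eq_mul]
        exact h5.symm
    rw [h4]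
    exact Nat.card_congr (subgroupOfEquivOfLe inf_le_left).toEquiv
  rw [h1, h3]
  exact Nat.mul_dvd_mul_left _ h2

namespace Frame

variable {P : Sylow 2 G} {V : Subgroup G} {h : G}

theorem comm (F : Frame P V h) : ∀ a ∈ V, ∀ b ∈ V, a * b = b * a := by
  have : Fact (Nat.Prime 2) := ⟨Nat.prime_two⟩
  have h22 : Nat.card V = 2 ^ 2 := by rw [F.card]; norm_num
  have hab : ∀ a b : V, a * b = b * a :=
    fun a b => (IsPGroup.isMulCommutative_of_card_eq_prime_sq h22).is_comm.comm a b
  intro a ha b hb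
  exact congrArg Subtype.val (hab ⟨a, ha⟩ ⟨b, hb⟩)

theorem inf_centralizer (F : Frame P V h) : (P : Subgroup G) ⊓ centralizer (V : Set G) = V := by
  apply le_antisymm
  · rintro x ⟨hx, hxc⟩
    exact F.cent x hx (fun v hv => (mem_centralizer_iff.1 hxc v hv).symm)
  · intro v hv
    exact ⟨F.le hv, mem_centralizer_iff.2 (fun w hw => F.comm w hw v hv)⟩

theorem le_normalizer (F : Frame P V h) : (P : Subgroup G) ≤ normalizer (V : Set G) := by
  intro x hx
  rw [mem_normalizer_iff]
  intro v
  constructor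
  · exact F.nrm x hx v
  · intro hv
    have := F.nrm x⁻¹ (inv_mem hx) _ hv
    have e : x⁻¹ * (x * v * x⁻¹) * x⁻¹⁻¹ = v := by group
    rwa [e] at this

theorem card_P (F : Frame P V h) : Nat.card (P : Subgroup G) = 4 ∨ Nat.card (P : Subgroup G) = 8 := by
  have : Fact (Nat.Prime 2) := ⟨Nat.prime_two⟩
  have h1 := card_dvd_of_normalizes F.card F.le_normalizer
  rw [F.inf_centralizer, F.card] at h1
  obtain ⟨k, hk⟩ := IsPGroup.iff_card.1 P.isPGroup'
  have h2 : Nat.card V ∣ Nat.card (P : Subgroup G) := card_dvd_of_le F.le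
  rw [F.card] at h2
  rw [hk] at h1 h2 ⊢
  have h3 : 2 ^ k ∣ 2 ^ 3 := by
    have h4 : Nat.Coprime (2 ^ k) 3 := Nat.Coprime.pow_left _ (by norm_num)
    have h5 : 2 ^ k ∣ 2 ^ 3 * 3 := by norm_num at h1 ⊢; exact h1
    exact h4.dvd_of_dvd_mul_right h5
  have h4 : k ≤ 3 := (Nat.pow_dvd_pow_iff_le_right (by norm_num)).1 h3
  have h5 : 2 ^ 2 ∣ 2 ^ k := by norm_num at h2 ⊢; exact h2
  have h6 : 2 ≤ k := (Nat.pow_dvd_pow_iff_le_right (by norm_num)).1 h5
  interval_cases k
  · left; norm_num
  · right; norm_num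

theorem exists_ne_one (F : Frame P V h) : ∃ v ∈ V, v ≠ 1 := by
  by_contra hcon
  push Not at hcon
  have : V = ⊥ := (eq_bot_iff_forall V).2 hcon
  have h4 := F.card
  rw [this, card_bot] at h4
  omega

end Frame

end Cfsg.Agent.H474.TwoFrame
end

-- part: H474/TwoSolv
section
/-!
# Groups with exactly `|P|/2` classes of 2-elements: the case of a normal four-group
-/

set_option autoImplicit false
open Cfsg

namespace Cfsg.Agent.H474.TwoSolv

universe u

open Subgroup Cfsg.Agent.H474.TwoCount Cfsg.Agent.H474.TwoFour Cfsg.Agent.H474.TwoFrame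
open scoped Pointwise

variable {G : Type u} [Group G] [Finite G]
variable {P : Sylow 2 G} {V : Subgroup G} {h : G}

/-- If `O_2(G) ≠ 1` then `V` is normal. -/
theorem normal_of_pCore (F : Frame P V h) (hR : pCore 2 G ≠ ⊥) : V.Normal := by
  have : Fact (Nat.Prime 2) := ⟨Nat.prime_two⟩
  have hRP : pCore 2 G ≤ (P : Subgroup G) := Cfsg.Agent.Lib.Cores.pCore_le_sylow P
  have hRn : (pCore 2 G).Normal := Cfsg.Agent.Lib.Cores.pCore_normal 2
  have hRn' : ((pCore 2 G).subgroupOf (P : Subgroup G)).Normal := inferInstance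
  have hR' : (pCore 2 G).subgroupOf (P : Subgroup G) ≠ ⊥ := by
    intro h0
    apply hR
    rw [subgroupOf_eq_bot] at h0
    exact h0.eq_bot_of_le hRP
  obtain ⟨z, hz, hzc, hz1⟩ := Cfsg.Agent.GTwoFour.Tools.exists_mem_center_of_normal P.isPGroup' _ hR'
  rw [mem_subgroupOf] at hz
  have hzV : (z : G) ∈ V := by
    apply F.cent _ z.2
    intro v hv
    have := mem_center_iff.1 hzc ⟨v, F.le hv⟩
    exact (congrArg Subtype.val this).symm
  have hz1' : (z : G) ≠ 1 := fun h => hz1 (Subtype.ext h)
  have hVR : V ≤ pCore 2 G := by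
    intro v hv
    by_cases hv1 : v = 1
    · rw [hv1]; exact one_mem _
    · obtain ⟨g, hg⟩ := F.trans _ hzV hz1' v hv hv1
      rw [← hg]
      exact hRn.conj_mem _ hz g
  refine ⟨fun v hv g => F.closed v hv g (hRP (hRn.conj_mem _ (hVR hv) g))⟩

/-- The centralizer of a normal `V`. -/
theorem centralizer_eq (F : Frame P V h) (hO : oddCore G = ⊥) (hVn : V.Normal) :
    centralizer (V : Set G) = V := by
  have : Fact (Nat.Prime 2) := ⟨Nat.prime_two⟩
  set C : Subgroup G := centralizer (V : Set G) with hC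
  have hCn : C.Normal := inferInstance
  have hVC : V ≤ C := fun v hv => mem_centralizer_iff.2 (fun w hw => F.comm w hw v hv)
  have hCO : oddCore C = ⊥ := by
    have h1 := Cfsg.Agent.Lib.Cores.map_subtype_pPrimeCore (G := G) 2 (N := C) hCn
    have h2 : (Cfsg.pPrimeCore 2 G) = ⊥ := hO
    rw [h2, inf_bot_eq] at h1
    exact (Subgroup.map_eq_bot_iff_of_injective _ C.subtype_injective).mp h1
  have h3 := Cfsg.Agent.TwoFusion.IsolatedCenter.eq_top_of_central (M := C) (V.subgroupOf C) (by
      intro w hw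
      rw [Subgroup.mem_center_iff]
      intro v
      ext
      have := mem_centralizer_iff.1 v.2 _ (Subgroup.mem_subgroupOf.mp hw)
      simpa only [_root_.Subgroup.coe_mul] using this.symm) ?_ ?_ hCO
  · exact le_antisymm (Subgroup.subgroupOf_eq_top.mp h3) hVC
  · exact (P.isPGroup'.to_le F.le).comap_subtype
  · -- the index is odd
    obtain ⟨T⟩ : Nonempty (Sylow 2 C) := inferInstance
    have hT : Nat.card T ≤ 4 := by
      set T' : Subgroup G := (T : Subgroup C).map C.subtype with hT'
      have hT'p : IsPGroup 2 T' := T.isPGroup'.map _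
      obtain ⟨R, hR⟩ := hT'p.exists_le_sylow
      obtain ⟨g, hg⟩ := MulAction.exists_smul_eq G R P
      have h1 : T'.map (MulAut.conj g).toMonoidHom ≤ V := by
        rw [← F.inf_centralizer]
        rintro _ ⟨x, hx, rfl⟩
        constructor
        · have h1 : MulAut.conj g x ∈ MulAut.conj g • (R : Subgroup G) :=
            Subgroup.smul_mem_pointwise_smul _ _ _ (hR hx)
          have h2 : MulAut.conj g x ∈ (P : Subgroup G) := by
            rw [← hg]; exact h1
          exact h2
        · obtain ⟨y, hy, rfl⟩ := hx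
          exact hCn.conj_mem _ y.2 g
      have h2 := card_le_of_le h1
      rw [F.card] at h2
      have h3 : Nat.card ↥(T'.map (MulAut.conj g).toMonoidHom) = Nat.card T' :=
        (Nat.card_congr (T'.equivMapOfInjective _ (MulAut.conj g).injective).toEquiv).symm
      have h4 : Nat.card T' = Nat.card T :=
        (Nat.card_congr ((T : Subgroup C).equivMapOfInjective _ C.subtype_injective).toEquiv).symm
      omega
    have h4 : Nat.card (V.subgroupOf C) = 4 := by
      rw [Nat.card_congr (subgroupOfEquivOfLe hVC).toEquiv, F.card]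
    have h5 := Subgroup.card_mul_index (V.subgroupOf C)
    rw [h4] at h5
    rw [T.card_eq_multiplicity] at hT
    by_contra hev
    rw [Nat.not_odd_iff_even] at hev
    obtain ⟨m, hm⟩ := hev
    have h8 : 2 ^ 3 ∣ Nat.card C := by
      rw [← h5, hm]
      exact ⟨m, by ring⟩
    have h9 : 3 ≤ (Nat.card C).factorization 2 :=
      (Nat.prime_two.pow_dvd_iff_le_factorization Nat.card_pos.ne').1 h8
    have h10 : 2 ^ 3 ≤ 2 ^ (Nat.card C).factorization 2 := Nat.pow_le_pow_right (by norm_num) h9
    omega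

/-- order -/
theorem card_G (F : Frame P V h) (hO : oddCore G = ⊥) (hVn : V.Normal) :
    Nat.card G = 12 ∨ Nat.card G = 24 := by
  have h1 := card_dvd_of_normalizes (N := (⊤ : Subgroup G)) F.card (by
    rw [normalizer_eq_top])
  rw [top_inf_eq, centralizer_eq F hO hVn, F.card, card_top] at h1
  have h2 : 4 ∣ Nat.card G := by
    rw [← F.card]; exact card_subgroup_dvd_card V
  have h3 : 3 ∣ Nat.card G := by
    have ho : orderOf h ∣ Nat.card G := _root_.orderOf_dvd_natCard h
    have ho2 : orderOf h ∣ 2 ^ 3 * 3 := by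
      refine ho.trans ?_
      norm_num only [] at h1 ⊢; exact h1
    have ho3 : orderOf h ∣ 3 :=
      (Nat.Coprime.pow_right 3 F.hodd).dvd_of_dvd_mul_left ho2
    rcases (Nat.dvd_prime Nat.prime_three).1 ho3 with h4 | h4
    · exfalso
      rw [orderOf_eq_one_iff] at h4
      obtain ⟨v, hv, hv1⟩ := F.exists_ne_one
      exact F.hmv v hv hv1 (by rw [h4]; group)
    · rw [← h4]; exact ho
  have h4 : 12 ∣ Nat.card G := (Nat.Coprime.mul_dvd_of_dvd_of_dvd (by norm_num) h2 h3)
  obtain ⟨k, hk⟩ := h4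
  rw [hk] at h1
  have h5 : 12 * k ∣ 12 * 2 := by norm_num only [] at h1 ⊢; exact h1
  have h6 : k ∣ 2 := Nat.dvd_of_mul_dvd_mul_left (by norm_num) h5
  rcases (Nat.dvd_prime Nat.prime_two).1 h6 with h7 | h7
  · left; rw [hk, h7]
  · right; rw [hk, h7]

/-- the case of a normal four-group -/
theorem main (F : Frame P V h) (hO : oddCore G = ⊥) (hVn : V.Normal) :
    Nonempty (G ≃* ↥(alternatingGroup (Fin 4))) ∨ Nonempty (G ≃* Equiv.Perm (Fin 4)) := by
  classical
  have h3f : Fact (Nat.Prime 3) := ⟨Nat.prime_three⟩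
  have hcard := card_G F hO hVn
  obtain ⟨T⟩ : Nonempty (Sylow 3 G) := inferInstance
  have hT3 : Nat.card T = 3 := by
    rw [T.card_eq_multiplicity]
    rcases hcard with hc | hc
    · rw [hc]
      have : (12 : ℕ).factorization 3 = 1 := by
        rw [show (12 : ℕ) = 3 * 4 by norm_num, Nat.factorization_mul (by norm_num) (by norm_num)]
        simp [Nat.prime_three.factorization, Nat.factorization_eq_zero_of_not_dvd]
      rw [this, pow_one]
    · rw [hc]
      have : (24 : ℕ).factorization 3 = 1 := by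
        rw [show (24 : ℕ) = 3 * 8 by norm_num, Nat.factorization_mul (by norm_num) (by norm_num)]
        simp [Nat.prime_three.factorization, Nat.factorization_eq_zero_of_not_dvd]
      rw [this, pow_one]
  have hn1 : Nat.card (Sylow 3 G) ≡ 1 [MOD 3] := card_sylow_modEq_one 3 G
  have hn2 : Nat.card (Sylow 3 G) ∣ (T : Subgroup G).index := T.card_dvd_index
  have hidx : (T : Subgroup G).index ∣ 8 := by
    have := Subgroup.card_mul_index (T : Subgroup G)
    rw [hT3] at this
    rcases hcard with hc | hc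
    · rw [hc] at this
      have : (T : Subgroup G).index = 4 := by omega
      rw [this]; norm_num
    · rw [hc] at this
      have : (T : Subgroup G).index = 8 := by omega
      rw [this]
  have hn3 : Nat.card (Sylow 3 G) ∣ 8 := hn2.trans hidx
  have hnne : Nat.card (Sylow 3 G) ≠ 1 := by
    intro h1
    have : Subsingleton (Sylow 3 G) := (Nat.card_eq_one_iff_unique.1 h1).1
    have hTn : (T : Subgroup G).Normal := T.normal_of_subsingleton
    have := Cfsg.Agent.ONType.Cz.eq_bot_of_odd hO _ hTn (by rw [hT3]; decide)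
    rw [this, card_bot] at hT3
    omega
  have hn4 : Nat.card (Sylow 3 G) = 4 := by
    have hle : Nat.card (Sylow 3 G) ≤ 8 := Nat.le_of_dvd (by norm_num) hn3
    generalize Nat.card (Sylow 3 G) = n at *
    have : n % 3 = 1 := hn1
    interval_cases n <;> omega
  -- the action
  let e : Sylow 3 G ≃ Fin 4 := (Finite.equivFinOfCardEq hn4)
  let f0 : G →* Equiv.Perm (Sylow 3 G) := MulAction.toPermHom G (Sylow 3 G)
  let f : G →* Equiv.Perm (Fin 4) := (e.permCongrHom.toMonoidHom).comp f0
  have hker : f0.ker = ⊥ := by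
    by_cases hK : ∃ v ∈ V, v ≠ 1 ∧ v ∈ f0.ker
    · exfalso
      obtain ⟨v, hv, hv1, hvK⟩ := hK
      have hVK : V ≤ f0.ker := by
        intro w hw
        by_cases hw1 : w = 1
        · rw [hw1]; exact one_mem _
        · obtain ⟨g, hg⟩ := F.trans v hv hv1 w hw hw1
          rw [← hg]
          exact (inferInstance : f0.ker.Normal).conj_mem _ hvK g
      -- `V` normalizes `T`
      have hdis : Disjoint V (T : Subgroup G) := by
        rw [disjoint_iff]
        apply (card_eq_one).1
        have h1 : Nat.card ↥(V ⊓ (T : Subgroup G)) ∣ 4 := by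
          rw [← F.card]; exact card_dvd_of_le inf_le_left
        have h2 : Nat.card ↥(V ⊓ (T : Subgroup G)) ∣ 3 := by
          have h0 := card_dvd_of_le (inf_le_right : V ⊓ (T : Subgroup G) ≤ (T : Subgroup G))
          rw [hT3] at h0
          exact h0
        exact Nat.dvd_one.1 (by
          have := Nat.dvd_gcd h1 h2
          simpa only [_root_.Subgroup.mem_inf, _root_.Nat.dvd_one, _root_.Nat.reduceGcd] using this)
      have hTC : (T : Subgroup G) ≤ centralizer (V : Set G) := by
        intro t ht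
        rw [mem_centralizer_iff]
        intro w hw
        have h1 : w • T = T := by
          have := hVK hw
          exact DFunLike.congr_fun this T
        have h2 : w * t * w⁻¹ ∈ (T : Subgroup G) := by
          have h3 : MulAut.conj w t ∈ MulAut.conj w • (T : Subgroup G) :=
            Subgroup.smul_mem_pointwise_smul _ _ _ ht
          have h4 : (MulAut.conj w • (T : Subgroup G) : Subgroup G) = (T : Subgroup G) :=
            congrArg (fun S : Sylow 3 G => (S : Subgroup G)) h1
          rw [h4] at h3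
          exact h3
        have h5 : w * t * w⁻¹ * t⁻¹ ∈ (T : Subgroup G) := mul_mem h2 (inv_mem ht)
        have h6 : w * t * w⁻¹ * t⁻¹ ∈ V := by
          have : w * t * w⁻¹ * t⁻¹ = w * (t * w⁻¹ * t⁻¹) := by group
          rw [this]
          exact mul_mem hw (hVn.conj_mem _ (inv_mem hw) t)
        have h7 := (disjoint_def.1 hdis) h6 h5
        have h8 : w * t * w⁻¹ = t := by rwa [mul_inv_eq_one] at h7
        rwa [mul_inv_eq_iff_eq_mul] at h8
      rw [centralizer_eq F hO hVn] at hTC
      have h1 := card_dvd_of_le hTC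
      rw [hT3, F.card] at h1
      omega
    · push Not at hK
      have hKC : f0.ker ≤ centralizer (V : Set G) := by
        intro k hk
        rw [mem_centralizer_iff]
        intro w hw
        have h5 : w * k * w⁻¹ * k⁻¹ ∈ f0.ker :=
          mul_mem ((inferInstance : f0.ker.Normal).conj_mem _ hk w) (inv_mem hk)
        have h6 : w * k * w⁻¹ * k⁻¹ ∈ V := by
          have : w * k * w⁻¹ * k⁻¹ = w * (k * w⁻¹ * k⁻¹) := by group
          rw [this]
          exact mul_mem hw (hVn.conj_mem _ (inv_mem hw) k)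
        have h7 : w * k * w⁻¹ * k⁻¹ = 1 := by
          by_contra hne
          exact hK _ h6 hne h5
        have h8 : w * k * w⁻¹ = k := by rwa [mul_inv_eq_one] at h7
        rwa [mul_inv_eq_iff_eq_mul] at h8
      rw [centralizer_eq F hO hVn] at hKC
      rw [eq_bot_iff_forall]
      intro k hk
      by_contra hne
      exact hK k (hKC hk) hne hk
  have hfinj : Function.Injective f := by
    have h1 : Function.Injective f0 := (MonoidHom.ker_eq_bot_iff f0).1 hker
    exact e.permCongrHom.injective.comp h1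
  have hrange : Nat.card f.range = Nat.card G :=
    (Nat.card_congr (MonoidHom.ofInjective hfinj).toEquiv).symm
  have h24 : Nat.card (Equiv.Perm (Fin 4)) = 24 := by
    rw [Nat.card_perm, Nat.card_fin]; rfl
  rcases hcard with hc | hc
  · left
    have h1 := Subgroup.card_mul_index f.range
    rw [hrange, hc, h24] at h1
    have h2 : f.range.index = 2 := by omega
    have h3 := Equiv.Perm.eq_alternatingGroup_of_index_eq_two h2
    exact ⟨(MonoidHom.ofInjective hfinj).trans (MulEquiv.subgroupCongr h3)⟩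
  · right
    have h1 : Function.Bijective f := by
      refine (Nat.bijective_iff_injective_and_card f).2 ⟨hfinj, ?_⟩
      rw [hc, h24]
    exact ⟨MulEquiv.ofBijective f h1⟩

end Cfsg.Agent.H474.TwoSolv
end

-- part: H474/TwoPerf
section
/-!
# Groups with exactly `|P|/2` classes of 2-elements: the case `O_2(G) = 1`
-/

set_option autoImplicit false
open Cfsg

namespace Cfsg.Agent.H474.TwoPerf

universe u

open Subgroup Cfsg.Agent.H474.TwoCount Cfsg.Agent.H474.TwoFour Cfsg.Agent.H474.TwoFrame
open scoped Pointwise commutatorElement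

/-- The focal subgroup theorem in the form used here. -/
theorem inf_commutator_le {G : Type u} [Group G] [Finite G] {p : ℕ} [Fact p.Prime] (S : Sylow p G)
    (X : Subgroup G)
    (h : ∀ a ∈ (S : Subgroup G), ∀ g : G, g⁻¹ * a * g ∈ (S : Subgroup G) → a⁻¹ * (g⁻¹ * a * g) ∈ X) :
    (S : Subgroup G) ⊓ commutator G ≤ X := by
  rw [inf_comm, Subgroup.commutator_inf_eq_focalSubgroup, Subgroup.focalSubgroup_def,
    Subgroup.closure_le]
  rintro _ ⟨hmem, x, hx, u, rfl⟩
  have h1 : (u⁻¹)⁻¹ * x * u⁻¹ ∈ (S : Subgroup G) := by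
    have h2 : (u⁻¹)⁻¹ * x * u⁻¹ = (⁅x, u⁆)⁻¹ * x := by
      rw [commutatorElement_def]; group
    rw [h2]
    exact mul_mem (inv_mem hmem) hx
  have h4 := h x⁻¹ (inv_mem hx) u⁻¹ (by
    have : (u⁻¹)⁻¹ * x⁻¹ * u⁻¹ = ((u⁻¹)⁻¹ * x * u⁻¹)⁻¹ := by group
    rw [this]; exact inv_mem h1)
  have h5 : (x⁻¹)⁻¹ * ((u⁻¹)⁻¹ * x⁻¹ * u⁻¹) = ⁅x, u⁆ := by
    rw [commutatorElement_def]; group
  rw [h5] at h4
  exact h4

variable {G : Type u} [Group G] [Finite G]
variable {P : Sylow 2 G} {V : Subgroup G} {h : G}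

/-- The focal subgroup lies in `V`. -/
theorem inf_commutator_le_V (F : Frame P V h) : (P : Subgroup G) ⊓ commutator G ≤ V := by
  classical
  have : Fact (Nat.Prime 2) := ⟨Nat.prime_two⟩
  apply inf_commutator_le
  intro a ha g hg
  set b : G := g⁻¹ * a * g with hb
  by_cases haV : a ∈ V
  · have h1 : b ∈ V := by
      have := F.closed a haV g⁻¹ (by rw [inv_inv]; exact hg)
      rw [inv_inv] at this; exact this
    exact mul_mem (inv_mem haV) h1
  · by_cases hab : a = b
    · rw [← hab, inv_mul_cancel]; exact one_mem _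
    · -- some `v ∈ V` moves `a`
      obtain ⟨v, hv, hva⟩ : ∃ v ∈ V, a * v ≠ v * a := by
        by_contra hcon
        push Not at hcon
        exact haV (F.cent a ha hcon)
      set c : G := v * a * v⁻¹ with hc
      have hcP : c ∈ P := mul_mem (mul_mem (F.le hv) ha) (inv_mem (F.le hv))
      have hac : a ≠ c := by
        intro e
        apply hva
        rw [hc, eq_mul_inv_iff_mul_eq] at e
        exact e
      have hbc : b = c := by
        by_contra hne
        have h3 := card_fiber_ge P (⟨a, ha⟩ : P) ⟨a, ha⟩ ⟨b, hg⟩ ⟨c, hcP⟩ rfl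
          (by
            rw [cls_eq_iff]
            refine ⟨g, ?_⟩
            change g * b * g⁻¹ = a
            rw [hb]; group)
          (by
            rw [cls_eq_iff]
            refine ⟨v⁻¹, ?_⟩
            change v⁻¹ * c * v⁻¹⁻¹ = a
            rw [hc]; group)
          (fun e => hab (congrArg Subtype.val e)) (fun e => hac (congrArg Subtype.val e))
          (fun e => hne (congrArg Subtype.val e))
        have h4 := F.fib a ha haV
        omega
      rw [hbc, hc]
      have e1 : a⁻¹ * (v * a * v⁻¹) = (a⁻¹ * v * a⁻¹⁻¹) * v⁻¹ := by group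
      rw [e1]
      exact mul_mem (F.nrm a⁻¹ (inv_mem ha) v hv) (inv_mem hv)

/-- the perfect radical -/
theorem exists_perfect (G : Type u) [Group G] [Finite G] :
    ∃ X : Subgroup G, X.Normal ∧ ⁅X, X⁆ = X ∧ (X = ⊥ → Group.IsSolvable G) := by
  obtain ⟨D, hD⟩ := Set.Finite.exists_minimal (s := Set.range (derivedSeries G)) (Set.toFinite _)
    ⟨_, ⟨0, rfl⟩⟩
  obtain ⟨n, hn⟩ := hD.1
  refine ⟨D, ?_, ?_, ?_⟩
  · rw [← hn]; infer_instance
  · have h1 : ⁅D, D⁆ ≤ D := by
      have : D.Normal := by rw [← hn]; infer_instance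
      exact commutator_le_left D D
    have h2 : derivedSeries G (n + 1) = ⁅D, D⁆ := by rw [derivedSeries_succ, hn]
    exact le_antisymm h1 (hD.2 ⟨n + 1, h2⟩ h1)
  · intro h0
    exact ⟨⟨n, by rw [hn, h0]⟩⟩

omit [Finite G] in
theorem oddCore_normal_eq_bot [Finite G] (hO : oddCore G = ⊥) (N : Subgroup G) (hN : N.Normal) :
    oddCore N = ⊥ := by
  have h1 := Cfsg.Agent.Lib.Cores.map_subtype_pPrimeCore (G := G) 2 (N := N) hN
  have h2 : (Cfsg.pPrimeCore 2 G) = ⊥ := hO
  rw [h2, inf_bot_eq] at h1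
  exact (Subgroup.map_eq_bot_iff_of_injective _ N.subtype_injective).mp h1

/-- A core-free group with cyclic Sylow 2-subgroups is a 2-group. -/
theorem isPGroup_of_cyclic {C : Type u} [Group C] [Finite C] (hO : oddCore C = ⊥) (T : Sylow 2 C)
    (hT : IsCyclic T) : (T : Subgroup C) = ⊤ ∧ commutator C = ⊥ := by
  have h2f : Fact (Nat.Prime 2) := ⟨Nat.prime_two⟩
  by_cases h1 : 2 ∣ Nat.card C
  · have hmin : (Nat.card C).minFac = 2 := (Nat.minFac_eq_two_iff _).2 h1
    have hle := hT.normalizer_le_centralizer hmin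
    have hcomp := MonoidHom.ker_transferSylow_isComplement' T hle
    have hnd := MonoidHom.not_dvd_card_ker_transferSylow T hle
    have hker : (MonoidHom.transferSylow T hle).ker = ⊥ := by
      apply Cfsg.Agent.ONType.Cz.eq_bot_of_odd hO _ inferInstance
      exact Nat.not_even_iff_odd.1 (fun h => hnd (even_iff_two_dvd.1 h))
    rw [hker, isComplement'_bot_left] at hcomp
    refine ⟨hcomp, ?_⟩
    have hinj : Function.Injective (MonoidHom.transferSylow T hle) :=
      (MonoidHom.ker_eq_bot_iff _).1 hker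
    have hab : IsMulCommutative T := by infer_instance
    rw [commutator_def, eq_bot_iff, commutator_le]
    intro x _ y _
    rw [mem_bot, commutatorElement_eq_one_iff_mul_comm]
    apply hinj
    rw [map_mul, map_mul]
    exact hab.is_comm.comm _ _
  · have hodd : Odd (Nat.card C) := Nat.not_even_iff_odd.1 (fun h => h1 (even_iff_two_dvd.1 h))
    have htop : (⊤ : Subgroup C) = ⊥ := Cfsg.Agent.ONType.Cz.eq_bot_of_odd hO ⊤ inferInstance (by
      rw [card_top]; exact hodd)
    have hall : ∀ x : C, x = 1 := fun x => by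
      have : x ∈ (⊤ : Subgroup C) := mem_top x
      rw [htop, mem_bot] at this
      exact this
    constructor
    · rw [eq_top_iff]
      intro x _
      rw [hall x]; exact one_mem _
    · rw [eq_bot_iff]
      intro x _
      rw [hall x]; exact one_mem _

theorem dihedral_of_four {T : Type u} [Group T] (h4 : Nat.card T = 4) (hnc : ¬ IsCyclic T) :
    Nonempty (T ≃* DihedralGroup 2) := by
  have hfin : Finite T := Nat.finite_of_card_ne_zero (by omega)
  have hsq : ∀ x : T, x ^ 2 = 1 := by
    intro x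
    have h1 : orderOf x ∣ 2 ^ 2 := by
      have := _root_.orderOf_dvd_natCard x
      rw [h4] at this; exact this
    obtain ⟨k, hk, hk2⟩ := (Nat.dvd_prime_pow Nat.prime_two).1 h1
    interval_cases k
    · rw [pow_zero] at hk2
      rw [orderOf_eq_one_iff.1 hk2, one_pow]
    · have h5 := pow_orderOf_eq_one x
      rw [hk2, pow_one] at h5
      exact h5
    · exfalso
      apply hnc
      exact isCyclic_of_orderOf_eq_card x (by rw [hk2, h4]; norm_num)
  have hk : IsKleinFour T := by
    refine ⟨h4, ?_⟩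
    have h1 : Monoid.exponent T ∣ 2 := Monoid.exponent_dvd_of_forall_pow_eq_one hsq
    rcases (Nat.dvd_prime Nat.prime_two).1 h1 with h2 | h2
    · exfalso
      have h3 : Subsingleton T := by
        rw [Monoid.exp_eq_one_iff] at h2
        exact h2
      have := Nat.card_of_subsingleton (1 : T)
      omega
    · exact h2
  exact IsKleinFour.nonempty_mulEquiv

/-- the case of trivial `O_2` -/
theorem main (hGW : Cfsg.Agent.SylowSp4.Hyps.GW.{u}) (F : Frame P V h) (hO : oddCore G = ⊥)
    (hR : pCore 2 G = ⊥) :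
    ∃ S : Subgroup G, S.Normal ∧ IsSimpleGroup ↥S ∧ ¬ IsMulCommutative ↥S ∧
      Subgroup.centralizer (S : Set G) = ⊥ ∧
      ∃ (F : Type) (_ : Field F) (_ : Fintype F), 3 < Fintype.card F ∧ (Fintype.card F % 8 = 3 ∨ Fintype.card F % 8 = 5) ∧
        Nonempty (↥S ≃* Matrix.ProjectiveSpecialLinearGroup (Fin 2) F) := by
  classical
  have h2f : Fact (Nat.Prime 2) := ⟨Nat.prime_two⟩
  obtain ⟨X, hXn, hXp, hXs⟩ := exists_perfect G
  have hX1 : X ≠ ⊥ := by
    intro h0
    have hs := hXs h0
    have h1 := Cfsg.Agent.Lib.HallHigman.centralizer_pCore_le_of_solvable (G := G) 2 hO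
    rw [hR] at h1
    obtain ⟨v, hv, hv1⟩ := F.exists_ne_one
    have h2 : v ∈ (⊥ : Subgroup G) := h1 (mem_centralizer_iff.2 (by
      intro w hw
      have : w = 1 := hw
      rw [this, one_mul, mul_one]))
    exact hv1 (mem_bot.1 h2)
  have hXO : oddCore X = ⊥ := oddCore_normal_eq_bot hO X hXn
  have hXperf : Group.IsPerfect X := Subgroup.isPerfect_iff.2 hXp
  have hXc : commutator X = ⊤ := hXperf.commutator_eq_top
  have hXnt : Nontrivial X := (nontrivial_iff_ne_bot X).2 hX1
  obtain ⟨T⟩ : Nonempty (Sylow 2 X) := inferInstance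
  have hTnc : ¬ IsCyclic T := by
    intro hc
    have := (isPGroup_of_cyclic hXO T hc).2
    rw [hXc] at this
    exact absurd this top_ne_bot
  -- the order of `T`
  have hTle : Nat.card T ≤ 4 := by
    by_contra hlt
    push Not at hlt
    set T' : Subgroup G := (T : Subgroup X).map X.subtype with hT'
    have hT'p : IsPGroup 2 T' := T.isPGroup'.map _
    obtain ⟨R, hRT⟩ := hT'p.exists_le_sylow
    have h4 : Nat.card T' = Nat.card T :=
      (Nat.card_congr ((T : Subgroup X).equivMapOfInjective _ X.subtype_injective).toEquiv).symm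
    have h5 : Nat.card T' ∣ Nat.card R := card_dvd_of_le hRT
    have h6 : Nat.card R = Nat.card P := by
      rw [R.card_eq_multiplicity, P.card_eq_multiplicity]
    have h7 : Nat.card (P : Subgroup G) = 8 := by
      rcases F.card_P with h8 | h8
      · exfalso
        have := Nat.le_of_dvd (by omega) h5
        omega
      · exact h8
    have h8 : Nat.card T' = 8 := by
      rw [h6, h7] at h5
      have h9 : Nat.card T' ∣ 2 ^ 3 := h5
      obtain ⟨k, hk, hk2⟩ := (Nat.dvd_prime_pow Nat.prime_two).1 h9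
      interval_cases k <;> omega
    have h9 : T' = (R : Subgroup G) := eq_of_le_of_card_ge hRT (by
      change Nat.card R ≤ Nat.card T'
      omega)
    have hRX : (R : Subgroup G) ≤ X := by
      rw [← h9]; exact map_subtype_le _
    obtain ⟨g, hg⟩ := MulAction.exists_smul_eq G R P
    have hPX : (P : Subgroup G) ≤ X := by
      intro x hx
      have h1 : x ∈ MulAut.conj g • (R : Subgroup G) := by
        have : (MulAut.conj g • (R : Subgroup G) : Subgroup G) = (P : Subgroup G) :=
          congrArg (fun S : Sylow 2 G => (S : Subgroup G)) hg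
        rw [this]; exact hx
      rw [Subgroup.mem_pointwise_smul_iff_inv_smul_mem] at h1
      have h2 := hXn.conj_mem _ (hRX h1) g
      have h3 : g * ((MulAut.conj g)⁻¹ • x) * g⁻¹ = x := by
        have : (MulAut.conj g)⁻¹ • x = g⁻¹ * x * g := by
          change (MulAut.conj g)⁻¹ x = _
          simp
        rw [this]; group
      rw [h3] at h2
      exact h2
    have hPc : (P : Subgroup G) ≤ commutator G := by
      refine hPX.trans ?_
      rw [← hXp, commutator_def]
      exact commutator_mono le_top le_top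
    have hPV : (P : Subgroup G) ≤ V := by
      have := inf_commutator_le_V F
      rw [inf_eq_left.2 hPc] at this
      exact this
    have := card_le_of_le hPV
    rw [F.card] at this
    omega
  have hT4 : Nat.card T = 4 := by
    obtain ⟨k, hk⟩ := IsPGroup.iff_card.1 T.isPGroup'
    have hk' : Nat.card T = 2 ^ k := hk
    have hk2 : k ≤ 2 := by
      by_contra hlt
      push Not at hlt
      have : 2 ^ 3 ≤ 2 ^ k := Nat.pow_le_pow_right (by norm_num) hlt
      omega
    interval_cases k
    · exfalso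
      apply hTnc
      have : Subsingleton T := by
        rw [pow_zero] at hk'
        exact (Nat.card_eq_one_iff_unique.1 hk').1
      infer_instance
    · exfalso
      apply hTnc
      exact isCyclic_of_prime_card (p := 2) (by rw [hk']; norm_num)
    · rw [hk']; norm_num
  have h4X : 4 ∣ Nat.card X := by
    rw [← hT4]; exact card_subgroup_dvd_card (T : Subgroup X)
  have h8X : ¬ 8 ∣ Nat.card X := by
    intro h8
    have h9 : 3 ≤ (Nat.card X).factorization 2 :=
      (Nat.prime_two.pow_dvd_iff_le_factorization Nat.card_pos.ne').1 (by norm_num only []; exact h8)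
    have h10 : 2 ^ 3 ≤ 2 ^ (Nat.card X).factorization 2 := Nat.pow_le_pow_right (by norm_num) h9
    rw [T.card_eq_multiplicity] at hT4
    omega
  have hquo : Nonempty (X ⧸ oddCore X ≃* X) := by
    have hn : (oddCore X).Normal := inferInstance
    exact ⟨(QuotientGroup.quotientMulEquivOfEq hXO).trans QuotientGroup.quotientBot⟩
  obtain ⟨eq⟩ := hquo
  rcases hGW X T 2 le_rfl (dihedral_of_four hT4 hTnc) with ⟨F', i1, i2, hodd, h3, ⟨e⟩⟩ | e0
  · have e' : X ≃* Matrix.ProjectiveSpecialLinearGroup (Fin 2) F' := eq.symm.trans e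
    have hsimple : IsSimpleGroup X := by
      have := Cfsg.Agent.TwoFusion.SLTwoFacts.isSimpleGroup_psl (F := F') h3
      exact e'.isSimpleGroup
    have hnab : ¬ IsMulCommutative X := by
      intro hab
      have h1 : commutator X = ⊥ := by
        rw [commutator_def, eq_bot_iff, commutator_le]
        intro x _ y _
        rw [mem_bot, commutatorElement_eq_one_iff_mul_comm]
        exact hab.is_comm.comm _ _
      rw [hXc] at h1
      exact absurd h1 top_ne_bot
    have hcardX : 2 * Nat.card X = Fintype.card F' * (Fintype.card F' ^ 2 - 1) := by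
      rw [Nat.card_congr e'.toEquiv]
      apply Cfsg.Agent.LieClassical.SmallIso.card_psl_two F'
      intro h0
      have h1 : ringChar F' = 2 := by
        have h2 : ringChar F' ∣ 2 := (ringChar.spec F' 2).1 (by exact_mod_cast h0)
        rcases (Nat.dvd_prime Nat.prime_two).1 h2 with h3 | h3
        · exact absurd h3 (CharP.ringChar_ne_one)
        · exact h3
      have h2 : Fintype.card F' % 2 = 0 := FiniteField.even_card_of_char_two h1
      rw [Nat.odd_iff] at hodd
      omega
    refine ⟨X, hXn, hsimple, hnab, ?_, F', i1, i2, h3, ?_, ⟨e'⟩⟩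
    · -- the centralizer
      set C : Subgroup G := centralizer (X : Set G) with hC
      have hCn : C.Normal := inferInstance
      have hCO : oddCore C = ⊥ := oddCore_normal_eq_bot hO C hCn
      have hinf : C ⊓ X = ⊥ := by
        have hn' : (C.subgroupOf X).Normal := inferInstance
        rcases hn'.eq_bot_or_eq_top with h0 | h0
        · rw [subgroupOf_eq_bot] at h0
          exact h0.eq_bot
        · exfalso
          apply hnab
          rw [subgroupOf_eq_top] at h0
          refine ⟨⟨fun a b => Subtype.ext ?_⟩⟩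
          exact mem_centralizer_iff.1 (h0 b.2) a a.2
      have hsup := Cfsg.Agent.OddOrderLocal.CommProd.card_sup_of_comm (H := C) (K := X)
        (fun a ha b hb => (mem_centralizer_iff.1 ha b hb).symm) hinf
      have hdvd : Nat.card C * Nat.card X ∣ Nat.card G := by
        rw [← hsup]; exact card_subgroup_dvd_card _
      have h4C : ¬ 4 ∣ Nat.card C := by
        intro h4
        have h16 : 2 ^ 4 ∣ Nat.card G := by
          have : (4 * 4 : ℕ) ∣ Nat.card C * Nat.card X := Nat.mul_dvd_mul h4 h4X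
          exact (by norm_num only [] at this ⊢; exact this : 2 ^ 4 ∣ Nat.card C * Nat.card X).trans hdvd
        have h9 : 4 ≤ (Nat.card G).factorization 2 :=
          (Nat.prime_two.pow_dvd_iff_le_factorization Nat.card_pos.ne').1 h16
        have h10 : 2 ^ 4 ≤ 2 ^ (Nat.card G).factorization 2 := Nat.pow_le_pow_right (by norm_num) h9
        have h11 := F.card_P
        have h12 : Nat.card (P : Subgroup G) = 2 ^ (Nat.card G).factorization 2 := P.card_eq_multiplicity
        omega
      obtain ⟨T2⟩ : Nonempty (Sylow 2 C) := inferInstance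
      have hT2c : IsCyclic T2 := by
        obtain ⟨k, hk⟩ := IsPGroup.iff_card.1 T2.isPGroup'
        have hk' : Nat.card T2 = 2 ^ k := hk
        have hk2 : k < 2 := by
          by_contra hlt
          push Not at hlt
          apply h4C
          have h1 : 2 ^ 2 ∣ 2 ^ k := pow_dvd_pow 2 hlt
          have h2 : Nat.card T2 ∣ Nat.card C := card_subgroup_dvd_card (T2 : Subgroup C)
          rw [hk'] at h2
          exact (by norm_num at h1 ⊢; exact h1 : 4 ∣ 2 ^ k).trans h2
        interval_cases k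
        · have : Subsingleton T2 := by
            rw [pow_zero] at hk'
            exact (Nat.card_eq_one_iff_unique.1 hk').1
          infer_instance
        · exact isCyclic_of_prime_card (p := 2) (by rw [hk']; norm_num)
      have h1 := (isPGroup_of_cyclic hCO T2 hT2c).1
      have hCp : IsPGroup 2 C := by
        have h2 : IsPGroup 2 (⊤ : Subgroup C) := by
          rw [← h1]; exact T2.isPGroup'
        exact h2.of_equiv Subgroup.topEquiv
      have h2 : C ≤ pCore 2 G := Cfsg.Agent.Lib.Cores.le_pCore hCn hCp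
      rw [hR] at h2
      exact eq_bot_iff.2 h2
    · by_contra hq
      push Not at hq
      obtain ⟨q1, q2⟩ := hq
      apply h8X
      set q := Fintype.card F' with hqdef
      have hq8 : q % 8 = 1 ∨ q % 8 = 7 := by
        rw [Nat.odd_iff] at hodd
        omega
      have h16 : 16 ∣ q ^ 2 - 1 := by
        have h1 : 1 ≤ q ^ 2 := Nat.one_le_pow _ _ (by omega)
        have h2 : q ^ 2 ≡ 1 [MOD 16] := by
          have h16q : q % 16 = 1 ∨ q % 16 = 9 ∨ q % 16 = 7 ∨ q % 16 = 15 := by omega
          rcases h16q with h | h | h | h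
          · exact (Nat.ModEq.pow 2 (show q ≡ 1 [MOD 16] from h))
          · exact (Nat.ModEq.pow 2 (show q ≡ 9 [MOD 16] from h)).trans (by decide)
          · exact (Nat.ModEq.pow 2 (show q ≡ 7 [MOD 16] from h)).trans (by decide)
          · exact (Nat.ModEq.pow 2 (show q ≡ 15 [MOD 16] from h)).trans (by decide)
        exact (Nat.modEq_iff_dvd' h1).1 h2.symm
      obtain ⟨m, hm⟩ := h16
      rw [hm] at hcardX
      exact ⟨q * m, by linarith only [hcardX]⟩
  · exfalso
    obtain ⟨e⟩ := e0
    have e' : X ≃* alternatingGroup (Fin 7) := eq.symm.trans e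
    apply h8X
    rw [Nat.card_congr e'.toEquiv]
    have h1 : 2 * Nat.card (alternatingGroup (Fin 7)) = Nat.card (Equiv.Perm (Fin 7)) :=
      two_mul_nat_card_alternatingGroup
    rw [Nat.card_perm, Nat.card_fin] at h1
    have h2 : Nat.factorial 7 = 5040 := rfl
    rw [h2] at h1
    exact ⟨315, by omega⟩

end Cfsg.Agent.H474.TwoPerf
end

private theorem dce_6e16158b0f26 : _root_.True := by
  try have : _root_.True := by simp only [_root_.Cfsg.Agent.H474.TwoCount.cls.congr_simp]
  exact _root_.True.intro
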